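import Cfsg.Agent.Lib.Perm.Trans.UnitFive.Pauli.Ctx
import Cfsg.Agent.Lib.Perm.Trans.FiveDim.Pauli.Central
import Cfsg.Agent.Lib.Perm.Trans.FiveDim.Pauli.Normal

/-!
# One involution in the centraliser of the parity makes the frame normal
-/

set_option autoImplicit false
set_option linter.all false

namespace CfsgLib.Perm.Trans.UnitFive.Pauli

open Matrix CfsgLib.Perm.Trans.FiveDim.Pauli

variable {F : Type*} [Field F] [Fintype F] {q : ℕ} {ω : Root F} {H : Subgroup (GL (Fin 5) F)}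

local notation "M5" => Matrix (Fin 5) (Fin 5) F
local notation "G5" => GL (Fin 5) F

/-- a solvable normal subgroup containing `D` and `S` -/
theorem UCtx5.exists_solvable_normal (hC : UCtx5 ω q H)
    (huniq : ∀ s : Dt ω H, s * s = 1 → s = 1 ∨ (s : G5) = gT ω) : ∃ K : Subgroup G5, K ≤ H ∧
    H ≤ Subgroup.normalizer (K : Set G5) ∧ Group.IsSolvable K ∧ gD ω ∈ K ∧ gS ω ∈ K := by
  classical
  haveI : Fact (Nat.Prime 2) := ⟨Nat.prime_two⟩
  obtain ⟨z, hz⟩ : ∃ z : H, z = ⟨gT ω, hC.memT⟩ := ⟨_, rfl⟩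
  have hT1 : gT ω ≠ 1 := fun e => ω.two (by
    have h := congrArg (fun g : G5 => (g : M5) 1 4) e
    simp [val_gT, tm] at h)
  have hz2 : orderOf z = 2 := orderOf_eq_prime (Subtype.ext (by simp [hz, pow_two, gT_sq]))
    (fun e => hT1 (by simpa [hz] using congrArg Subtype.val e))
  have hzP : IsPGroup 2 (Subgroup.zpowers z) :=
    IsPGroup.of_card (n := 1) (by rw [Nat.card_zpowers, hz2, pow_one])
  obtain ⟨P, hP⟩ := hzP.exists_le_sylow
  have hzmem : z ∈ (P : Subgroup H) := hP (Subgroup.mem_zpowers z)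
  have key : ∀ u : H, Commute u z → u * u = 1 → u = 1 ∨ u = z := fun u hu hu2 => by
    have hu' : (u : G5) ∈ Dt ω H := mem_Dt.2 ⟨u.2, by
      have := congrArg Subtype.val hu.eq
      simpa [hz] using this⟩
    rcases huniq ⟨u, hu'⟩ (Subtype.ext (congrArg Subtype.val hu2 :)) with e | e
    · exact Or.inl (Subtype.ext (congrArg Subtype.val e :))
    · exact Or.inr (by rw [hz]; exact Subtype.ext e)
  haveI : Nontrivial (P : Subgroup H) :=
    ⟨⟨⟨z, hzmem⟩, 1, fun e => hT1 (by simpa [hz] using congrArg Subtype.val (congrArg Subtype.val e))⟩⟩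
  haveI := P.isPGroup'.center_nontrivial
  have hzc : ∀ x ∈ (P : Subgroup H), Commute x z := by
    obtain ⟨u, hu⟩ : ∃ u : Subgroup.center (P : Subgroup H), orderOf u = 2 := by
      have h2 : IsPGroup 2 (Subgroup.center (P : Subgroup H)) := P.isPGroup'.to_subgroup _
      obtain ⟨n, hn, hcard⟩ := h2.nontrivial_iff_card.1 inferInstance
      exact exists_prime_orderOf_dvd_card' 2 (hcard ▸ dvd_pow_self 2 (by omega))
    have hu2 : ((u : (P : Subgroup H)) : H) * ((u : (P : Subgroup H)) : H) = 1 := by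
      have := congrArg (fun t : Subgroup.center (P : Subgroup H) => ((t : (P : Subgroup H)) : H))
        (show u * u = 1 by have h' := pow_orderOf_eq_one u; rw [hu, pow_two] at h'; exact h')
      simpa using this
    have huz : ((u : (P : Subgroup H)) : H) = z := by
      refine (key _ ?_ hu2).resolve_left fun e => ?_
      · exact congrArg Subtype.val (Subgroup.mem_center_iff.1 u.2 ⟨z, hzmem⟩).symm
      · have : u = 1 := Subtype.ext (Subtype.ext e)
        rw [this, orderOf_one] at hu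
        omega
    intro x hx
    rw [← huz]
    exact congrArg Subtype.val (Subgroup.mem_center_iff.1 u.2 ⟨x, hx⟩)
  have hO := CfsgLib.Invol.zcentral_of_unique_invol P hz2 (fun x hx hx2 =>
    (key x (hzc x hx) (by have h' := pow_orderOf_eq_one x; rw [hx2, pow_two] at h'; exact h')).resolve_left fun e => by
      rw [e, orderOf_one] at hx2; omega)
  have hodd : Odd (Nat.card (Cfsg.pPrimeCore 2 H)) := by
    rw [Nat.odd_iff, ← Nat.two_dvd_ne_zero, ← Nat.prime_two.coprime_iff_not_dvd]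
    exact (CfsgLib.Coprime.pPrimeCore_coprime Nat.prime_two).symm
  haveI := CfsgLib.FT.isSolvable_of_odd (Cfsg.pPrimeCore 2 H) hodd
  refine ⟨(Cfsg.pPrimeCore 2 H).map H.subtype, Subgroup.map_subtype_le _, ?_, ?_, ?_, ?_⟩
  · intro g hg
    refine Subgroup.mem_normalizer_iff.2 fun r => ⟨?_, fun h => ?_⟩
    · rintro ⟨k, hk, rfl⟩
      exact ⟨⟨g, hg⟩ * k * (⟨g, hg⟩ : H)⁻¹, Subgroup.Normal.conj_mem inferInstance k hk _, rfl⟩
    · obtain ⟨k, hk, hkr⟩ := h
      refine ⟨(⟨g, hg⟩ : H)⁻¹ * k * ⟨g, hg⟩, ?_, ?_⟩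
      · have := Subgroup.Normal.conj_mem (H := Cfsg.pPrimeCore 2 H) inferInstance k hk (⟨g, hg⟩ : H)⁻¹
        rwa [inv_inv] at this
      · simp at hkr ⊢
        rw [hkr]; group
  · exact solvable_of_surjective (H.subtype.subgroupMap_surjective (Cfsg.pPrimeCore 2 H))
  · have h := hO ⟨gD ω, hC.memD⟩
    refine ⟨⟨gD ω, hC.memD⟩, ?_, rfl⟩
    have e : (⟨gD ω, hC.memD⟩ : H) = (z * ⟨gD ω, hC.memD⟩ * z⁻¹ * (⟨gD ω, hC.memD⟩ : H)⁻¹) ^ 2 := Subtype.ext (by
      have hzi : (gT ω)⁻¹ = gT ω := inv_eq_of_mul_eq_one_right (gT_sq ω)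
      simp [hz, hzi, gT_conj_gD, pow_two]
      rw [eq_comm, ← mul_inv_eq_one]
      simpa [← mul_assoc, ← _root_.mul_inv_rev, pow_succ] using congrArg (·⁻¹) (gD_pow_five ω))
    rw [e]
    exact pow_mem h 2
  · have h := hO ⟨gS ω, hC.memS⟩
    refine ⟨⟨gS ω, hC.memS⟩, ?_, rfl⟩
    have e : (⟨gS ω, hC.memS⟩ : H) = (z * ⟨gS ω, hC.memS⟩ * z⁻¹ * (⟨gS ω, hC.memS⟩ : H)⁻¹) ^ 2 := Subtype.ext (by
      have hzi : (gT ω)⁻¹ = gT ω := inv_eq_of_mul_eq_one_right (gT_sq ω)
      simp [hz, hzi, gT_conj_gS, pow_two]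
      rw [eq_comm, ← mul_inv_eq_one]
      simpa [← mul_assoc, ← _root_.mul_inv_rev, pow_succ] using congrArg (·⁻¹) (gS_pow_five (ω := ω)))
    rw [e]
    exact pow_mem h 2

/-- the frame is normal -/
theorem UCtx5.le_normalizer_of_unique (hC : UCtx5 ω q H)
    (huniq : ∀ s : Dt ω H, s * s = 1 → s = 1 ∨ (s : G5) = gT ω) :
    H ≤ Subgroup.normalizer (gR ω : Set G5) := by
  obtain ⟨K, hKH, hn, hsol, hDK, -⟩ := hC.exists_solvable_normal huniq
  refine le_normalizer_of_solvable ω hC.det hC.memD hC.memS hC.memQ hC.memP hKH hn hsol fun h => ω.ne_one ?_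
  have e := (mem_center_iff_scalar ω).1 (h hDK)
  have e1 := congrFun (congrFun e 1) 1
  simp [val_gD, dm] at e1
  exact e1

end CfsgLib.Perm.Trans.UnitFive.Pauli
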