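import Cfsg.Agent.Lib.Perm.Trans.UnitFive.Pauli.CenHalf
import Cfsg.Agent.Lib.Perm.Trans.UnitFive.Pauli.CenNormal

/-!
# The parity is the only involution of its centraliser

If the group of the differences is large, an involution of determinant minus one gives a half turn
or a kernel containing a fivefold rotation; otherwise it gives a central element of forbidden order.
-/

set_option autoImplicit false
set_option linter.all false

namespace CfsgLib.Perm.Trans.UnitFive.Pauli

open scoped Matrix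
open Matrix CfsgLib.Perm.Trans.FiveDim.Pauli

variable {F : Type*} [Field F] [Fintype F] {q : ℕ}

local notation "M2" => Matrix (Fin 2) (Fin 2) F
local notation "M3" => Matrix (Fin 3) (Fin 3) F
local notation "M5" => Matrix (Fin 5) (Fin 5) F
local notation "G5" => GL (Fin 5) F

variable {ω : Root F} {M : Subgroup (GL (Fin 5) F)}

/-- `T` in its centraliser -/
def tT (h : UCtx5 ω q M) : Dt ω M := ⟨gT ω, mem_Dt_of_sym h.memT (by rw [val_gT]; exact sym_tm)⟩

theorem prA_tT (h : UCtx5 ω q M) : (prA ω M (tT h) : M3) = 1 := by rw [val_prA]; exact Am_tm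

theorem prB_tT (h : UCtx5 ω q M) : (prB ω M (tT h) : M2) = -1 := by rw [val_prB]; exact Bm_tm

theorem phase_ne : ω.μ - ω.μ ^ 4 ≠ 0 ∧ ω.μ ^ 2 - ω.μ ^ 3 ≠ 0 :=
  ⟨sub_ne_zero.2 fun e => ω.pow_ne_one (k := 3) (by norm_num)
    (mul_right_cancel₀ ω.ne_zero (by linear_combination -e)),
  sub_ne_zero.2 fun e => ω.ne_one (mul_right_cancel₀ (pow_ne_zero 2 ω.ne_zero) (by linear_combination -e))⟩

/-- an element with diagonal differences is diagonal on the sums, with squares fixed by the differences -/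
theorem UCtx5.diag_of_prB (h : UCtx5 ω q M) {z : Dt ω M} {b b' : F}
    (hzB : (prB ω M z : M2) = Matrix.diagonal ![b, b']) : ∃ a u v : F,
      (prA ω M z : M3) = Matrix.diagonal ![a, u, v] ∧ u * u = b * b ∧ v * v = b' * b' ∧ a * u * v * (b * b') = 1 := by
  have hq : (z : G5) * gQ ω = gQ ω * (z : G5) := congrArg Subtype.val (show z * tQ h = tQ h * z from
    h.prB_injective (Units.ext (by
      rw [map_mul, map_mul, Units.val_mul, Units.val_mul, hzB, prB_tQ, Matrix.diagonal_mul_diagonal,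
        Matrix.diagonal_mul_diagonal]
      simp only [mul_comm])))
  obtain ⟨z1, z2, z3, z4, z5, z6, z7, z8, z9, w1, w2, w3, w4, w5, w6, w7⟩ :=
    blocked_of_comm (ω := ω) (g := ((z : G5) : M5)) (by simpa [val_gQ] using congrArg Units.val hq)
  obtain ⟨f1, f2⟩ := h.both_pairs (mem_Dt.1 z.2).1 hq (sym_Dt z)
  have hA : (prA ω M z : M3) = Matrix.diagonal
      ![((z : G5) : M5) 0 0, ((z : G5) : M5) 1 1 + ((z : G5) : M5) 1 4, ((z : G5) : M5) 2 2 + ((z : G5) : M5) 2 3] := by
    rw [val_prA]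
    ext i j; fin_cases i <;> fin_cases j <;> simp [Am, z1, z2, z3, z4, z5, z6, z9, w1, w4, w5]
  have b00 := congrFun (congrFun hzB 0) 0
  have b11 := congrFun (congrFun hzB 1) 1
  simp [val_prB, Bm] at b00 b11
  have hdet := h.det _ (mem_Dt.1 z.2).1
  rw [det_parts ω.two (sym_Dt z), ← val_prA, ← val_prB, hA, hzB, Matrix.det_diagonal, Matrix.det_diagonal,
    Fin.prod_univ_three, Fin.prod_univ_two] at hdet
  refine ⟨_, _, _, hA, ?_, ?_, by simpa using hdet⟩
  · linear_combination 4 * f1 + (((z : G5) : M5) 1 1 - ((z : G5) : M5) 1 4 + b) * b00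
  · linear_combination 4 * f2 + (((z : G5) : M5) 2 2 - ((z : G5) : M5) 2 3 + b') * b11

/-- elements scalar on the differences are scalar on the sums -/
theorem UCtx5.scalar_of_prB (h : UCtx5 ω q M) {z : Dt ω M} {l : F} (hzB : (prB ω M z : M2) = l • 1) :
    ∃ a : F, (prA ω M z : M3) = a • 1 ∧ a * a = l * l ∧ a ^ 5 = 1 := by
  obtain ⟨a, u, v, hA, hu, hv, hd⟩ := h.diag_of_prB (b := l) (b' := l) (by rw [hzB, smul_one_eq_diagonal]; congr 1; funext i; fin_cases i <;> rfl)
  have hzc : ∀ w : Dt ω M, z * w = w * z := fun w => h.prB_injective (Units.ext (by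
    rw [map_mul, map_mul, Units.val_mul, Units.val_mul, hzB, Matrix.smul_mul, Matrix.mul_smul, one_mul, mul_one]))
  have hcomA : ∀ w : Dt ω M, (prA ω M z : M3) * (prA ω M w : M3) = (prA ω M w : M3) * (prA ω M z : M3) := fun w => by
    rw [← Units.val_mul, ← Units.val_mul, ← map_mul, ← map_mul, hzc]
  have eW := congrFun (congrFun (hcomA (tW h)) 1) 2
  have eP := congrFun (congrFun (hcomA (tP h)) 0) 1
  rw [hA, prA_tW] at eW
  rw [hA, prA_tP] at eP
  simp [Matrix.mul_apply, Matrix.vecMul, dotProduct, Fin.sum_univ_three, Matrix.diagonal_apply] at eW eP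
  obtain rfl : u = a := by
    refine mul_left_cancel₀ (mul_ne_zero ω.two (inv_ne_zero ω.η_ne_zero)) ?_
    linear_combination -eP
  obtain rfl : v = u := by linear_combination -eW
  refine ⟨v, ?_, hu, ?_⟩
  · rw [hA, smul_one_eq_diagonal]; congr 1; funext i; fin_cases i <;> rfl
  · linear_combination hd + v ^ 3 * hu

/-- no element is a reflection of the differences and a half turn or minus one of the sums -/
theorem UCtx5.no_reflection (h : UCtx5 ω q M) (hbig : Big F q (prB ω M).range) {d : Dt ω M} {β : F}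
    (hA : (prA ω M d : M3) = Matrix.diagonal ![-1, β, β]) (hβ : β * β = 1)
    (hB : (prB ω M d : M2) = Matrix.diagonal ![1, -1]) : False := by
  classical
  rcases mul_self_eq_one_iff.1 hβ with rfl | rfl
  · -- a monomial element
    have hdv : ((d : G5) : M5) =
        !![-1, 0, 0, 0, 0; 0, 1, 0, 0, 0; 0, 0, 0, 1, 0; 0, 0, 1, 0, 0; 0, 0, 0, 0, 1] := by
      refine eq_of_parts ω.two (sym_Dt d) ?_ ?_ ?_
      · intro i j; fin_cases i <;> fin_cases j <;> rfl
      · rw [← val_prA, hA]; ext i j; fin_cases i <;> fin_cases j <;> simp [Am]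
      · rw [← val_prB, hB]; ext i j; fin_cases i <;> fin_cases j <;> simp [Bm]
    have hdM := (mem_Dt.1 d.2).1
    obtain ⟨d1, hd1⟩ : ∃ d1, d1 = gS ω * (d : G5) * (gS ω)⁻¹ := ⟨_, rfl⟩
    have hd1M : d1 ∈ M := hd1 ▸ mul_mem (mul_mem h.memS hdM) (inv_mem h.memS)
    obtain ⟨E, hE⟩ : ∃ E : M5, E = !![1, 0, 0, 0, 0; 0, -1, 0, 0, 0; 0, 0, 1, 0, 0; 0, 0, 0, 0, 1; 0, 0, 0, 1, 0] :=
      ⟨_, rfl⟩
    have hd1v : (d1 : M5) = E := by
      refine (gS ω).isUnit.mul_right_cancel ?_
      rw [← Units.val_mul, hd1, inv_mul_cancel_right, Units.val_mul, hdv, val_gS, hE]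
      ext i j; fin_cases i <;> fin_cases j <;> simp [sm, Matrix.mul_apply, Fin.sum_univ_five]
    obtain ⟨u, hu⟩ : ∃ u, u = ((d : G5) * d1) ^ 3 := ⟨_, rfl⟩
    have huM : u ∈ M := hu ▸ pow_mem (mul_mem hdM hd1M) 3
    have huv : (u : M5) = Matrix.diagonal ![-1, -1, 1, 1, 1] := by
      rw [hu, Units.val_pow_eq_pow_val, Units.val_mul, hdv, hd1v, hE, pow_succ, pow_two]
      ext i j; fin_cases i <;> fin_cases j <;>
        simp [Matrix.mul_apply, Matrix.vecMul, dotProduct, Fin.sum_univ_five, Matrix.diagonal_apply]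
    have hshift : ∀ (x : G5) (v : Fin 5 → F), x ∈ M → (x : M5) = Matrix.diagonal v →
        ∃ y ∈ M, (y : M5) = Matrix.diagonal (fun i => v (i + 4)) := fun x v hx hxv => by
      refine ⟨gS ω * x * (gS ω)⁻¹, mul_mem (mul_mem h.memS hx) (inv_mem h.memS), (gS ω).isUnit.mul_right_cancel ?_⟩
      rw [← Units.val_mul, inv_mul_cancel_right, Units.val_mul, hxv, val_gS]
      ext i j
      rw [Matrix.mul_diagonal, Matrix.diagonal_mul, sm_apply]
      split_ifs with e
      · rw [e, add_assoc, show (1 : Fin 5) + 4 = 0 from rfl, add_zero]; ring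
      · simp
    obtain ⟨u1, hu1M, hu1⟩ := hshift _ _ huM huv
    obtain ⟨u2, hu2M, hu2⟩ := hshift _ _ hu1M hu1
    obtain ⟨u3, hu3M, hu3⟩ := hshift _ _ hu2M hu2
    obtain ⟨g, hg⟩ : ∃ g, g = u1 * u3 := ⟨_, rfl⟩
    have hgv : (g : M5) = Matrix.diagonal ![1, -1, -1, -1, -1] := by
      rw [hg, Units.val_mul, hu1, hu3, Matrix.diagonal_mul_diagonal]
      congr 1; funext i; fin_cases i <;> simp [Fin.ext_iff]
    have hgD : g ∈ Dt ω M := mem_Dt_of_sym (hg ▸ mul_mem hu1M hu3M) (by
      rw [hgv]; intro i j; fin_cases i <;> fin_cases j <;> rfl)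
    refine h.no_half_turn (⟨g, hgD⟩ * tT h) ?_ (Units.ext ?_)
    · rw [map_mul, Units.val_mul, prA_tT, mul_one, val_prA]
      show Am (g : M5) = _
      rw [hgv]; ext i j; fin_cases i <;> fin_cases j <;> simp [Am, Matrix.diagonal_apply]
    · rw [map_mul, Units.val_mul, prB_tT, mul_neg, mul_one, val_prB, Units.val_one]
      show -Bm (g : M5) = _
      rw [hgv]; ext i j; fin_cases i <;> fin_cases j <;> simp [Bm, Matrix.diagonal_apply]
  · -- minus one on the sums
    have hA1 : (prA ω M d : M3) = -1 := by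
      rw [hA]; ext i j; fin_cases i <;> fin_cases j <;> simp
    obtain ⟨N, hN⟩ : ∃ N, N = (prA ω M).ker.map (prB ω M) := ⟨_, rfl⟩
    have hNle : N ≤ Cfsg.GU 2 F q ⊓ Cfsg.Geo.specialLinear (Fin 2) F := by
      subst hN
      rintro _ ⟨y, hy, rfl⟩
      refine ⟨prB_mem h y, show Matrix.GeneralLinearGroup.det (prB ω M y) = 1 from Units.ext ?_⟩
      have hd := h.det _ (mem_Dt.1 y.2).1
      rw [det_parts ω.two (sym_Dt y), ← val_prA, ← val_prB, show prA ω M y = 1 from hy, Units.val_one, Matrix.det_one,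
        one_mul] at hd
      rw [Matrix.GeneralLinearGroup.val_det_apply, hd, Units.val_one]
    have hn : ∀ s ∈ Cfsg.GU 2 F q ⊓ Cfsg.Geo.specialLinear (Fin 2) F, ∀ n ∈ N, s * n * s⁻¹ ∈ N := by
      subst hN
      rintro s hs _ ⟨y, hy, rfl⟩
      have hsd : (s : M2).det = 1 := by
        have h1 : Matrix.GeneralLinearGroup.det s = 1 := hs.2
        rw [← Matrix.GeneralLinearGroup.val_det_apply, h1, Units.val_one]
      obtain ⟨_, ⟨x, rfl⟩, l, hl⟩ := hbig s hs.1 hsd
      refine ⟨x * y * x⁻¹, (inferInstance : (prA ω M).ker.Normal).conj_mem y hy x, ?_⟩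
      rw [map_mul, map_mul, map_inv, mul_inv_eq_iff_eq_mul]
      refine Units.ext ?_
      simp only [Units.val_mul]
      rw [hl, Matrix.smul_mul, Matrix.mul_smul, mul_assoc, mul_assoc, Units.inv_mul, mul_one]
    obtain ⟨k, hk⟩ : ∃ k, k = d * tP h * d⁻¹ * (tP h)⁻¹ := ⟨_, rfl⟩
    have hkA : prA ω M k = 1 := by
      rw [hk, map_mul, map_mul, map_mul, map_inv, map_inv, mul_inv_eq_one, mul_inv_eq_iff_eq_mul]
      exact Units.ext (by rw [Units.val_mul, Units.val_mul, hA1, neg_one_mul, mul_neg, mul_one])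
    have hns : ∀ c : F, (prB ω M k : M2) ≠ c • 1 := by
      intro c hc
      have e : (prB ω M d : M2) * (prB ω M (tP h) : M2) = c • ((prB ω M (tP h) : M2) * (prB ω M d : M2)) := by
        rw [← Units.val_mul, ← Units.val_mul, ← map_mul, ← map_mul, show d * tP h = k * (tP h * d) by rw [hk]; group,
          map_mul, Units.val_mul, hc, Matrix.smul_mul, one_mul]
      rw [hB, prB_tP] at e
      have e00 := congrFun (congrFun e 0) 0
      have e01 := congrFun (congrFun e 0) 1
      simp [Matrix.mul_apply, Matrix.vecMul, dotProduct, Matrix.diagonal_apply, Fin.sum_univ_two] at e00 e01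
      obtain ⟨h14, h23⟩ := phase_ne (ω := ω)
      have hη := inv_ne_zero ω.η_ne_zero
      have hc1 : c = 1 := by
        refine mul_right_cancel₀ (mul_ne_zero hη h14) ?_
        linear_combination -e00
      rw [hc1] at e01
      exact mul_ne_zero (mul_ne_zero ω.two hη) h23 (by linear_combination -e01)
    have hfull := full_of_normalised h.qcase hNle hn (hN ▸ Subgroup.mem_map_of_mem _ hkA) hns
    obtain ⟨y, hy, hye⟩ := hN ▸ hfull (show prB ω M (tQ h) ∈ Cfsg.GU 2 F q ⊓ Cfsg.Geo.specialLinear (Fin 2) F from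
      ⟨prB_mem h _, show Matrix.GeneralLinearGroup.det (prB ω M (tQ h)) = 1 from Units.ext (by
        rw [Matrix.GeneralLinearGroup.val_det_apply, prB_tQ, Matrix.det_diagonal, Fin.prod_univ_two, Units.val_one]
        simp
        linear_combination ω.pow5)⟩)
    obtain ⟨a, u, v, hyA, hu, -, -⟩ := h.diag_of_prB (z := y) (by rw [hye, prB_tQ])
    rw [show prA ω M y = 1 from hy, Units.val_one] at hyA
    have u1 := congrFun (congrFun hyA 1) 1
    simp at u1
    rw [← u1] at hu
    exact ω.pow_ne_one (k := 2) (by norm_num) (by linear_combination -hu)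

/-- the only involutions of the centraliser of the parity -/
theorem UCtx5.eq_one_or_parity (h : UCtx5 ω q M) {s : Dt ω M} (hs : s * s = 1) :
    s = 1 ∨ (s : G5) = gT ω := by
  classical
  have hinj := h.prB_injective
  obtain ⟨a, b, c, d, hb⟩ : ∃ a b c d, (prB ω M s : M2) = !![a, b; c, d] := ⟨_, _, _, _, Matrix.eta_fin_two _⟩
  have hsB : (prB ω M s : M2) * (prB ω M s : M2) = 1 := by
    rw [← Units.val_mul, ← map_mul, hs, map_one, Units.val_one]
  have hsq := hsB
  rw [hb] at hsq
  have q00 := congrFun (congrFun hsq 0) 0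
  have q01 := congrFun (congrFun hsq 0) 1
  have q10 := congrFun (congrFun hsq 1) 0
  have q11 := congrFun (congrFun hsq 1) 1
  simp [Matrix.mul_apply, Fin.sum_univ_two] at q00 q01 q10 q11
  by_cases htr : a + d = 0
  swap
  · -- scalar
    obtain rfl : b = 0 := (mul_eq_zero.1 (show (a + d) * b = 0 by linear_combination q01)).resolve_left htr
    obtain rfl : c = 0 := (mul_eq_zero.1 (show (a + d) * c = 0 by linear_combination q10)).resolve_left htr
    simp at q00 q11
    obtain rfl : d = a := by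
      by_contra hne
      rcases mul_self_eq_one_iff.1 q00 with rfl | rfl <;> rcases mul_self_eq_one_iff.1 q11 with rfl | rfl <;> simp at hne htr
    rcases mul_self_eq_one_iff.1 q00 with rfl | rfl
    · refine Or.inl (hinj (Units.ext ?_))
      rw [hb, map_one, Units.val_one]
      ext i j; fin_cases i <;> fin_cases j <;> simp
    · right
      have e : s = tT h := hinj (Units.ext (by
        rw [hb, prB_tT]
        ext i j; fin_cases i <;> fin_cases j <;> simp))
      rw [e]
      rfl
  exfalso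
  have hdet : (prB ω M s : M2).det = -1 := by
    rw [hb, Matrix.det_fin_two_of]
    linear_combination a * htr - q00
  obtain ⟨h14, h23⟩ := phase_ne (ω := ω)
  by_cases hbig : Big F q (prB ω M).range
  · obtain ⟨R, hR⟩ : ∃ R : GL (Fin 2) F, (R : M2) = Matrix.diagonal ![1, -1] :=
      ⟨Matrix.GeneralLinearGroup.mkOfDetNeZero (Matrix.diagonal ![1, -1]) (by
        rw [Matrix.det_diagonal, Fin.prod_univ_two]; simp), rfl⟩
    obtain ⟨C⟩ := CfsgLib.Perm.Trans.Unit.ctx_of_card h.qcase.1
    have hRU : R ∈ Cfsg.GU 2 F q := C.mem_gu_iff_mat.2 (by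
      rw [hR]; ext i j; fin_cases i <;> fin_cases j <;> simp [Matrix.mul_apply, Fin.sum_univ_two])
    obtain ⟨_, ⟨x, rfl⟩, l, hl⟩ := hbig (R * prB ω M s) ((Cfsg.GU 2 F q).mul_mem hRU (prB_mem h s)) (by
      rw [Units.val_mul, Matrix.det_mul, hdet, hR, Matrix.det_diagonal, Fin.prod_univ_two]; simp)
    have hdB : (prB ω M (x * s) : M2) = Matrix.diagonal ![l, -l] := by
      rw [map_mul, Units.val_mul, hl, Matrix.smul_mul, Units.val_mul, mul_assoc, hsB, mul_one, hR, ← Matrix.diagonal_smul]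
      congr 1; funext i; fin_cases i <;> simp
    obtain ⟨e, he⟩ : ∃ e, e = x * s := ⟨_, rfl⟩
    rw [← he] at hdB
    obtain ⟨α, β, γ, heA, hβ, hγ, hd⟩ := h.diag_of_prB hdB
    -- the normaliser swaps the two lines
    have hW : tW h * e = tT h * e * tW h := hinj (Units.ext (by
      rw [map_mul, map_mul, map_mul, Units.val_mul, Units.val_mul, Units.val_mul, hdB, prB_tT, prB_tW]
      ext i j; fin_cases i <;> fin_cases j <;>
        simp [Matrix.mul_apply, Matrix.vecMul, dotProduct, Fin.sum_univ_two, Matrix.diagonal_apply]))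
    have hWA := congrArg (fun w => ((prA ω M w : GL (Fin 3) F) : M3) 1 2) hW
    simp only [map_mul, Units.val_mul] at hWA
    rw [heA, prA_tT, prA_tW, one_mul] at hWA
    simp [Matrix.mul_apply, Matrix.vecMul, dotProduct, Fin.sum_univ_three, Matrix.diagonal_apply] at hWA
    obtain rfl : γ = β := by linear_combination hWA
    -- the square is scalar
    obtain ⟨t, ht, htt, ht5⟩ := h.scalar_of_prB (z := e * e) (l := l * l) (by
      rw [map_mul, Units.val_mul, hdB, Matrix.diagonal_mul_diagonal, smul_one_eq_diagonal]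
      congr 1; funext i; fin_cases i <;> simp)
    rw [map_mul, Units.val_mul, heA, Matrix.diagonal_mul_diagonal, smul_one_eq_diagonal] at ht
    have t0 := congrFun (congrFun ht 0) 0
    have t1 := congrFun (congrFun ht 1) 1
    simp at t0 t1
    have hl10 : l ^ 5 * l ^ 5 = 1 := by rw [← mul_pow, ← hβ, t1, ht5]
    have hβ10 : γ ^ 5 * γ ^ 5 = 1 := by rw [← mul_pow, t1, ht5]
    have he5B : (prB ω M (e ^ 5) : M2) = Matrix.diagonal ![l ^ 5, -(l ^ 5)] := by
      rw [map_pow, Units.val_pow_eq_pow_val, hdB, Matrix.diagonal_pow]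
      congr 1; funext i; fin_cases i <;> simp [Odd.neg_pow (by decide : Odd 5)]
    have he5A : (prA ω M (e ^ 5) : M3) = Matrix.diagonal ![α ^ 5, γ ^ 5, γ ^ 5] := by
      rw [map_pow, Units.val_pow_eq_pow_val, heA, Matrix.diagonal_pow]
      congr 1; funext i; fin_cases i <;> simp
    obtain ⟨f, hfB, β', hfA, hβ'⟩ : ∃ f : Dt ω M, (prB ω M f : M2) = Matrix.diagonal ![1, -1] ∧
        ∃ β' : F, (prA ω M f : M3) = Matrix.diagonal ![α ^ 5, β', β'] ∧ β' * β' = 1 := by
      rcases mul_self_eq_one_iff.1 hl10 with e' | e'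
      · exact ⟨e ^ 5, by rw [he5B, e'], γ ^ 5, he5A, hβ10⟩
      · refine ⟨e ^ 5 * tT h, ?_, γ ^ 5, by rw [map_mul, Units.val_mul, he5A, prA_tT, mul_one], hβ10⟩
        rw [map_mul, Units.val_mul, he5B, e', prB_tT, mul_neg, mul_one]
        ext i j; fin_cases i <;> fin_cases j <;> simp
    have hα : α ^ 5 = -1 := by
      have h1 := h.det _ (mem_Dt.1 f.2).1
      rw [det_parts ω.two (sym_Dt f), ← val_prA, ← val_prB, hfA, hfB, Matrix.det_diagonal, Matrix.det_diagonal,
        Fin.prod_univ_three, Fin.prod_univ_two] at h1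
      simp at h1
      linear_combination -h1 - α ^ 5 * hβ'
    rw [hα] at hfA
    exact h.no_reflection hbig hfA hβ' hfB
  · obtain ⟨X₀, hX₀⟩ : ∃ X₀, X₀ = Subgroup.closure ({tQ h, tW h, tP h} : Set (Dt ω M)) := ⟨_, rfl⟩
    have hdet1 : ∀ x ∈ X₀, Matrix.GeneralLinearGroup.det (prB ω M x) = 1 := by
      subst hX₀
      intro x hx
      induction hx using Subgroup.closure_induction with
      | mem x hx =>
        refine Units.ext ?_
        rw [Matrix.GeneralLinearGroup.val_det_apply, Units.val_one]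
        rcases hx with rfl | rfl | rfl
        · rw [prB_tQ, Matrix.det_diagonal, Fin.prod_univ_two]
          simp
          linear_combination ω.pow5
        · rw [prB_tW, Matrix.det_fin_two_of]; ring
        · rw [val_prB]; exact det_Bm_fm ω
      | one => simp
      | mul x y _ _ hx hy => simp [hx, hy]
      | inv x _ hx => simp [hx]
    have m1 : tQ h ∈ X₀ := hX₀ ▸ Subgroup.subset_closure (by simp)
    have m2 : tW h ∈ X₀ := hX₀ ▸ Subgroup.subset_closure (by simp)
    have m3 : tP h ∈ X₀ := hX₀ ▸ Subgroup.subset_closure (by simp)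
    have hη := ω.η_ne_zero
    obtain ⟨_, ⟨x, hx, rfl⟩, l, hl⟩ := exists_scalar_mul h.qcase (G := (prB ω M).range)
      (by rintro _ ⟨y, rfl⟩; exact prB_mem h y) hbig ω.pow5 ω.ne_one (prB_tQ h) (G0 := X₀.map (prB ω M))
      (Subgroup.map_le_range _ _) (Subgroup.mem_map_of_mem _ m1) (Subgroup.mem_map_of_mem _ m2)
      (by rw [prB_tW]; rfl) (by rw [prB_tW]; rfl) (f := prB ω M (tP h)) (Subgroup.mem_map_of_mem _ m3)
      (by rw [prB_tP]; simp [Mono, hη, h14, h23]) (g := prB ω M s) ⟨s, rfl⟩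
    obtain ⟨t, -, htt, ht5⟩ := h.scalar_of_prB (z := s * x⁻¹) (l := l) (by
      rw [map_mul, map_inv, Units.val_mul, hl, Matrix.smul_mul, Units.mul_inv])
    have hl2 : l * l = -1 := by
      have h1 := congrArg Matrix.det hl
      rw [hdet, Matrix.det_smul, Fintype.card_fin, ← Matrix.GeneralLinearGroup.val_det_apply, hdet1 x hx,
        Units.val_one, mul_one] at h1
      linear_combination -h1
    rw [hl2] at htt
    have ht1 : t = 1 := by linear_combination ht5 - t * (t * t - 1) * htt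
    rw [ht1] at htt
    exact ω.two (by linear_combination htt)

/-- the frame is normal -/
theorem UCtx5.le_normalizer (h : UCtx5 ω q M) : M ≤ Subgroup.normalizer (gR ω : Set G5) :=
  h.le_normalizer_of_unique fun _ hs => h.eq_one_or_parity hs

end CfsgLib.Perm.Trans.UnitFive.Pauli
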