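import Cfsg.Agent.Lib.Perm.Trans.UnitFive.Pauli.Ctx
import Cfsg.Agent.Lib.Perm.Trans.FiveDim.Pauli.Normal
import Cfsg.Agent.Lib.Perm.Trans.FiveDim.Pauli.Clause

/-!
# The frame normaliser has order prime to large primes; unitary unipotent groups under the phase

An element of prime order at least seven normalising the frame group and of determinant one is trivial, and a
`p`-group of unitary three by three blocks normalised by the phase is trivial.
-/

set_option autoImplicit false
set_option linter.all false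

namespace CfsgLib.Perm.Trans.UnitFive.Pauli

open scoped Matrix
open Matrix CfsgLib.Perm.Trans.FiveDim.Pauli

variable {F : Type*} [Field F] [Fintype F] {q : ℕ}

local notation "M3" => Matrix (Fin 3) (Fin 3) F
local notation "M5" => Matrix (Fin 5) (Fin 5) F
local notation "G5" => GL (Fin 5) F

variable {ω : Root F} {M : Subgroup (GL (Fin 5) F)}

/-- no elements of large prime order in the normaliser of the frame -/
theorem eq_one_of_normalizer (ω : Root F) {p : ℕ} [hp : Fact p.Prime] [CharP F p] (h2 : p ≠ 2) (h3 : p ≠ 3)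
    (h5 : p ≠ 5) {u : G5} (hN : u ∈ Subgroup.normalizer (gR ω : Set G5)) (hdet : (u : M5).det = 1)
    (hup : u ^ p = 1) : u = 1 := by
  classical
  obtain ⟨π, hπe⟩ : ∃ π, π = QuotientGroup.mk' (Subgroup.center G5) := ⟨_, rfl⟩
  have hπ : ∀ x : G5, π x = 1 ↔ x ∈ Subgroup.center G5 := fun x => hπe ▸ QuotientGroup.eq_one_iff x
  obtain ⟨d, hd⟩ : ∃ d, d = π (gD ω) := ⟨_, rfl⟩
  obtain ⟨s, hs⟩ : ∃ s, s = π (gS ω) := ⟨_, rfl⟩
  have hd5 : d ^ 5 = 1 := by rw [hd, ← map_pow, gD_pow_five, map_one]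
  have hs5 : s ^ 5 = 1 := by rw [hs, ← map_pow, gS_pow_five, map_one]
  have hds : Commute d s := by
    show d * s = s * d
    rw [hd, hs, ← map_mul, gD_mul_gS, map_mul, (hπ _).2 (gZ_mem_center ω), one_mul, map_mul]
  obtain ⟨E, hE⟩ : ∃ E, E = (gR ω).map π := ⟨_, rfl⟩
  have hform : ∀ e ∈ E, ∃ i j : Fin 5, e = s ^ (i : ℕ) * d ^ (j : ℕ) := by
    subst hE
    rintro _ ⟨x, hx, rfl⟩
    obtain ⟨i, j, k, rfl⟩ := exists_form ω hx
    refine ⟨⟨i % 5, Nat.mod_lt _ (by norm_num)⟩, ⟨j % 5, Nat.mod_lt _ (by norm_num)⟩, ?_⟩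
    rw [map_mul, map_mul, map_pow, map_pow, map_pow, (hπ _).2 (gZ_mem_center ω), one_pow, mul_one, ← hs, ← hd,
      ← pow_eq_pow_mod i hs5, ← pow_eq_pow_mod j hd5]
  have hle : Nat.card E ≤ 25 := by
    have hsurj : Function.Surjective (fun ij : Fin 5 × Fin 5 => (⟨s ^ (ij.1 : ℕ) * d ^ (ij.2 : ℕ),
        hE ▸ mul_mem (pow_mem (hs ▸ Subgroup.mem_map_of_mem π (gS_mem ω)) _)
          (pow_mem (hd ▸ Subgroup.mem_map_of_mem π (gD_mem ω)) _)⟩ : E)) := fun e => by
      obtain ⟨i, j, h⟩ := hform e e.2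
      exact ⟨(i, j), Subtype.ext h.symm⟩
    have := Nat.card_le_card_of_surjective _ hsurj
    simpa using this
  haveI : Fact (Nat.Prime 5) := ⟨by norm_num⟩
  have hE5 : IsPGroup 5 E := fun e => ⟨1, Subtype.ext (by
    obtain ⟨i, j, h⟩ := hform e e.2
    rw [SubgroupClass.coe_pow, h, pow_one, OneMemClass.coe_one, (hds.symm.pow_pow _ _).mul_pow, ← pow_mul, mul_comm,
      pow_mul, hs5, one_pow, one_mul, ← pow_mul, mul_comm, pow_mul, hd5, one_pow])⟩
  obtain ⟨a, ha⟩ := IsPGroup.iff_card.1 hE5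
  -- conjugation by the element
  have hconj : ∀ e ∈ E, π u * e * (π u)⁻¹ ∈ E := by
    subst hE
    rintro _ ⟨x, hx, rfl⟩
    exact ⟨u * x * u⁻¹, (Subgroup.mem_normalizer_iff.1 hN x).1 hx, by simp⟩
  let f : E → E := fun e => ⟨π u * e * (π u)⁻¹, hconj e e.2⟩
  have hfi : Function.Injective f := fun g h e => by
    have := congrArg Subtype.val e
    exact Subtype.ext (mul_left_cancel (mul_right_cancel this))
  let σ : Equiv.Perm E := Equiv.ofBijective f (Finite.injective_iff_bijective.1 hfi)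
  have hpow : ∀ (k : ℕ) (g : E), (((σ ^ k) g : E) : G5 ⧸ Subgroup.center G5) = π u ^ k * g * (π u ^ k)⁻¹ := by
    intro k
    induction k with
    | zero => simp
    | succ k ih =>
      intro g
      rw [pow_succ', Equiv.Perm.mul_apply]
      show π u * ((σ ^ k) g : G5 ⧸ Subgroup.center G5) * (π u)⁻¹ = _
      rw [ih, pow_succ', _root_.mul_inv_rev]
      group
  have hσ : σ ^ p = 1 := Equiv.ext fun g => Subtype.ext (by rw [hpow, ← map_pow, hup]; simp)
  obtain ⟨E₀, hE₀⟩ : ∃ E₀, E₀ = E ⊓ Subgroup.centralizer {π u} := ⟨_, rfl⟩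
  have hmod : Nat.card E ≡ Nat.card E₀ [MOD p] := by
    have hP : IsPGroup p (Subgroup.zpowers σ) := by
      rintro ⟨_, i, rfl⟩
      exact ⟨1, Subtype.ext (show (σ ^ i) ^ (p ^ 1) = 1 by
        rw [pow_one, ← zpow_natCast, ← _root_.zpow_mul, mul_comm, _root_.zpow_mul, zpow_natCast, hσ, _root_.one_zpow])⟩
    refine (hP.card_modEq_card_fixedPoints E).trans ?_
    suffices e : Nat.card (MulAction.fixedPoints (Subgroup.zpowers σ) E) = Nat.card E₀ by rw [e]
    refine Nat.card_congr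
      { toFun := fun g => ⟨(g.1 : G5 ⧸ Subgroup.center G5), hE₀ ▸ Subgroup.mem_inf.2 ⟨g.1.2,
          Subgroup.mem_centralizer_singleton_iff.2
            (mul_inv_eq_iff_eq_mul.1 (congrArg Subtype.val (g.2 ⟨σ, Subgroup.mem_zpowers σ⟩) :)).symm⟩⟩
        invFun := fun g => ⟨⟨g.1, (Subgroup.mem_inf.1 (hE₀ ▸ g.2 : g.1 ∈ E ⊓ Subgroup.centralizer {π u})).1⟩, ?_⟩
        left_inv := fun g => rfl
        right_inv := fun g => rfl }
    rintro ⟨_, i, rfl⟩
    refine Equiv.Perm.zpow_apply_eq_self_of_apply_eq_self (Subtype.ext ?_) i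
    show π u * g.1 * (π u)⁻¹ = g.1
    rw [← Subgroup.mem_centralizer_singleton_iff.1 (Subgroup.mem_inf.1 (hE₀ ▸ g.2 : g.1 ∈ E ⊓ Subgroup.centralizer {π u})).2,
      mul_inv_cancel_right]
  have hdvd : Nat.card E₀ ∣ Nat.card E := Subgroup.card_dvd_of_le (hE₀ ▸ inf_le_left)
  have hEE : E₀ = E := by
    refine Subgroup.eq_of_le_of_card_ge (hE₀ ▸ inf_le_left) ?_
    have ha2 : a ≤ 2 := by
      by_contra h
      have : 5 ^ 3 ≤ 5 ^ a := Nat.pow_le_pow_right (by norm_num) (by omega)
      omega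
    rw [ha] at hdvd hmod ⊢
    obtain ⟨b, hb, hbc⟩ := (Nat.dvd_prime_pow (by norm_num : Nat.Prime 5)).1 hdvd
    rw [hbc] at hmod ⊢
    have hp2 := hp.out.two_le
    interval_cases a <;> interval_cases b <;> simp at hmod ⊢
    all_goals
      have h := (Nat.modEq_iff_dvd' (by norm_num)).1 hmod.symm
      norm_num at h
      have hle' := Nat.le_of_dvd (by norm_num) h
      have hpr := hp.out
      interval_cases p <;> first | omega | norm_num at hpr
  have hcomm : ∀ r ∈ gR ω, u * r * u⁻¹ * r⁻¹ ∈ Subgroup.center G5 := fun r hr => by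
    have h : π r ∈ E₀ := hEE ▸ hE ▸ Subgroup.mem_map_of_mem π hr
    rw [hE₀] at h
    have h' := Subgroup.mem_centralizer_singleton_iff.1 (Subgroup.mem_inf.1 h).2
    refine (hπ _).1 ?_
    rw [map_mul, map_mul, map_mul, map_inv, map_inv, ← h', mul_inv_cancel_right, mul_inv_cancel]
  obtain ⟨i, j, hij⟩ := exists_monomial ω hdet (hcomm _ (gD_mem ω)) (hcomm _ (gS_mem ω))
  have hu : π u = s ^ i * d ^ j := by
    have := (hπ _).2 hij
    rw [map_mul, map_inv, inv_mul_eq_one, map_mul, map_pow, map_pow] at this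
    rw [hs, hd]; exact this.symm
  have h5u : π u ^ 5 = 1 := by
    rw [hu, (hds.symm.pow_pow _ _).mul_pow, ← pow_mul, mul_comm, pow_mul, hs5, one_pow, one_mul, ← pow_mul, mul_comm,
      pow_mul, hd5, one_pow]
  have hu1 : π u = 1 := by
    rcases (Nat.dvd_prime (by norm_num : Nat.Prime 5)).1 (orderOf_dvd_of_pow_eq_one h5u) with e | e
    · exact orderOf_eq_one_iff.1 e
    · have h' := orderOf_dvd_of_pow_eq_one (show π u ^ p = 1 by rw [← map_pow, hup, map_one])
      rw [e] at h'
      exact absurd ((Nat.prime_dvd_prime_iff_eq (by norm_num) hp.out).1 h') (Ne.symm h5)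
  have hsc := (mem_center_iff_scalar ω).1 ((hπ _).1 hu1)
  have hc : ((u : M5) 0 0) ^ p = 1 := by
    have h := congrArg (fun g : G5 => (g : M5) 0 0) hup
    simp only [Units.val_pow_eq_pow_val, Units.val_one] at h
    rw [hsc, smul_pow, one_pow] at h
    simpa using h
  have hc1 : (u : M5) 0 0 = 1 := by
    refine sub_eq_zero.1 (eq_zero_of_pow_eq_zero (n := p) ?_)
    rw [sub_pow_char, hc, one_pow, sub_self]
  refine Units.ext ?_
  rw [hsc, hc1, one_smul, Units.val_one]

/-- the weights of the three lines of the sums -/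
def wtA : Fin 3 → F := ![1, 2, 2]

/-- the block of the sums preserves the diagonal form with weights `1, 2, 2` -/
theorem prA_unit (h : UCtx5 ω q M) (C : CfsgLib.SU.UCtx F q) (g : Dt ω M) (i j : Fin 3) :
    ∑ k, wtA k * (prA ω M g : M3) k i * C.bar ((prA ω M g : M3) k j) = if i = j then wtA i else 0 := by
  obtain ⟨a, b, c, d, e, f, k, l, m, n, o, r⟩ := (sym_Dt g).vals
  have hE := unit_entry C (g := (g : G5)) (h.le (mem_Dt.1 g.2).1).1
  have e00 := hE 0 0
  have e01 := hE 0 1
  have e02 := hE 0 2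
  have e03 := hE 0 3
  have e04 := hE 0 4
  have e10 := hE 1 0
  have e11 := hE 1 1
  have e12 := hE 1 2
  have e13 := hE 1 3
  have e14 := hE 1 4
  have e20 := hE 2 0
  have e21 := hE 2 1
  have e22 := hE 2 2
  have e23 := hE 2 3
  have e24 := hE 2 4
  have e30 := hE 3 0
  have e31 := hE 3 1
  have e32 := hE 3 2
  have e33 := hE 3 3
  have e34 := hE 3 4
  have e40 := hE 4 0
  have e41 := hE 4 1
  have e42 := hE 4 2
  have e43 := hE 4 3
  have e44 := hE 4 4
  simp [Fin.sum_univ_five, a, b, c, d, e, f, k, l, m, n, o, r] at e00 e01 e02 e03 e04 e10 e11 e12 e13 e14 e20 e21 e22 e23 e24 e30 e31 e32 e33 e34 e40 e41 e42 e43 e44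
  rw [Fin.sum_univ_three, val_prA]
  fin_cases i <;> fin_cases j <;> simp [Am, wtA, map_add, a, b, c, d, e, f, k, l, m, n, o, r]
  · linear_combination e00
  · linear_combination e01 + e04
  · linear_combination e02 + e03
  · linear_combination e10 + e40
  · linear_combination e11 + e14 + e41 + e44
  · linear_combination e12 + e13 + e42 + e43
  · linear_combination e20 + e30
  · linear_combination e21 + e24 + e31 + e34
  · linear_combination e22 + e23 + e32 + e33

/-- a fixed coordinate line splits off -/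
theorem prA_row_of_col (h : UCtx5 ω q M) (g : Dt ω M) {i : Fin 3}
    (hcol : ∀ k, (prA ω M g : M3) k i = if k = i then 1 else 0) (j : Fin 3) :
    (prA ω M g : M3) i j = if i = j then 1 else 0 := by
  by_cases hij : i = j
  · subst hij
    rw [hcol]
  obtain ⟨C⟩ := CfsgLib.Perm.Trans.Unit.ctx_of_card h.qcase.1
  have hE := prA_unit h C g i j
  rw [Finset.sum_eq_single i (fun k _ hk => by rw [hcol, if_neg hk, mul_zero, zero_mul]) (by simp), hcol, if_pos rfl,
    if_neg hij, mul_one, mul_eq_zero] at hE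
  have hw : wtA i ≠ (0 : F) := by fin_cases i <;> simp [wtA, ω.two]
  rw [if_neg hij]
  exact (map_eq_zero_iff C.bar C.bar.injective).1 (hE.resolve_left hw)

/-- a `p`-group of unitary blocks normalised by the phase is trivial -/
theorem eq_one_of_pgroup (h : UCtx5 ω q M) {p : ℕ} [hp : Fact p.Prime] [CharP F p] {P : Subgroup (Dt ω M)}
    (hP : IsPGroup p P) {δ : Dt ω M} (hδ : (prA ω M δ : M3) = Matrix.diagonal ![1, ω.μ, ω.μ ^ 4])
    (hn : ∀ g ∈ P, δ * g * δ⁻¹ ∈ P) {g : Dt ω M} (hg : g ∈ P) : prA ω M g = 1 := by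
  classical
  obtain ⟨c, hc⟩ : ∃ c : Fin 3 → F, c = ![1, ω.μ, ω.μ ^ 4] := ⟨_, rfl⟩
  have hinv : ∀ g ∈ P, δ⁻¹ * g * δ ∈ P := fun g hg => by
    let f : P → P := fun x => ⟨δ * x * δ⁻¹, hn x x.2⟩
    have hfi : Function.Injective f := fun a b e => by
      have := congrArg Subtype.val e
      exact Subtype.ext (mul_left_cancel (mul_right_cancel this))
    obtain ⟨x, hx⟩ := (Finite.injective_iff_surjective.1 hfi) ⟨g, hg⟩
    have hx' : δ * (x : Dt ω M) * δ⁻¹ = g := congrArg Subtype.val hx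
    rw [← hx', show δ⁻¹ * (δ * (x : Dt ω M) * δ⁻¹) * δ = x by group]
    exact x.2
  obtain ⟨Fx, hFx⟩ : ∃ Fx : Fin 3 → Prop, Fx = fun i => ∀ g ∈ P, ∀ k, (prA ω M g : M3) k i = if k = i then 1 else 0 :=
    ⟨_, rfl⟩
  have step : ∀ S : Finset (Fin 3), (∀ i ∈ S, Fx i) → S ≠ Finset.univ → ∃ i ∉ S, Fx i := by
    subst hFx
    intro S hS hne
    obtain ⟨i₀, hi₀⟩ : ∃ i, i ∉ S := by
      by_contra hall
      push Not at hall
      exact hne (Finset.eq_univ_of_forall hall)
    have hU : ∀ g ∈ P, ∀ v : Fin 3 → F, (∀ s ∈ S, v s = 0) → ∀ s ∈ S, ((prA ω M g : M3) *ᵥ v) s = 0 := by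
      intro g hg v hv s hs
      rw [Matrix.mulVec, dotProduct, Finset.sum_eq_single s (fun k _ hk => by
        rw [prA_row_of_col h g (hS s hs g hg) k, if_neg (Ne.symm hk), zero_mul]) (by simp), hv s hs, mul_zero]
    letI act : MulAction P {v : Fin 3 → F // ∀ s ∈ S, v s = 0} :=
      { smul := fun x v => ⟨(prA ω M (x : Dt ω M) : M3) *ᵥ v.1, hU _ x.2 _ v.2⟩
        one_smul := fun v => Subtype.ext (by
          show (prA ω M ((1 : P) : Dt ω M) : M3) *ᵥ v.1 = v.1
          rw [OneMemClass.coe_one, map_one, Units.val_one, Matrix.one_mulVec])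
        mul_smul := fun x y v => Subtype.ext (by
          show (prA ω M ((x * y : P) : Dt ω M) : M3) *ᵥ v.1 = _
          rw [Subgroup.coe_mul, map_mul, Units.val_mul, ← Matrix.mulVec_mulVec]
          rfl) }
    let U : AddSubgroup (Fin 3 → F) :=
      { carrier := {v | ∀ s ∈ S, v s = 0}
        add_mem' := fun {a b} ha hb s hs => by simp [ha s hs, hb s hs]
        zero_mem' := fun s _ => rfl
        neg_mem' := fun {a} ha s hs => by simp [ha s hs] }
    have hdvd : p ∣ Nat.card {v : Fin 3 → F // ∀ s ∈ S, v s = 0} := by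
      obtain ⟨e, he⟩ : ∃ e : U, e = ⟨Pi.single i₀ 1, fun s hs => Pi.single_eq_of_ne (fun e => hi₀ (by rw [← e]; exact hs)) 1⟩ :=
        ⟨_, rfl⟩
      have hpe : addOrderOf e = p := addOrderOf_eq_prime (Subtype.ext (by
          rw [AddSubgroupClass.coe_nsmul, he]
          funext k
          simp [CharP.cast_eq_zero]))
        (fun h0 => one_ne_zero (α := F) (by
          have := congrFun (congrArg Subtype.val h0) i₀
          rw [he] at this
          simpa using this))
      exact hpe ▸ addOrderOf_dvd_natCard e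
    obtain ⟨v, hv, hv0⟩ := hP.exists_fixed_point_of_prime_dvd_card_of_fixed_point
      {v : Fin 3 → F // ∀ s ∈ S, v s = 0} hdvd (a := ⟨0, fun s _ => rfl⟩)
      (fun x => Subtype.ext (by
        show (prA ω M (x : Dt ω M) : M3) *ᵥ (0 : Fin 3 → F) = 0
        rw [Matrix.mulVec_zero]))
    obtain ⟨i, hi⟩ : ∃ i, v.1 i ≠ 0 := by
      by_contra hall
      push Not at hall
      exact hv0 (Subtype.ext (funext fun k => (hall k).symm))
    refine ⟨i, fun hiS => hi (v.2 i hiS), ?_⟩
    have hfix : ∀ g ∈ P, (prA ω M g : M3) *ᵥ v.1 = v.1 := fun g hg => congrArg Subtype.val (hv ⟨g, hg⟩)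
    have hmove : ∀ w : Fin 3 → F, (∀ g ∈ P, (prA ω M g : M3) *ᵥ w = w) →
        ∀ g ∈ P, (prA ω M g : M3) *ᵥ (fun k => c k * w k) = fun k => c k * w k := by
      intro w hw g hg
      have e : (fun k => c k * w k) = (prA ω M δ : M3) *ᵥ w := by
        funext k; rw [hδ, Matrix.mulVec_diagonal, hc]
      rw [e, Matrix.mulVec_mulVec, ← Units.val_mul, ← map_mul, show g * δ = δ * (δ⁻¹ * g * δ) by group, map_mul,
        Units.val_mul, ← Matrix.mulVec_mulVec, hw _ (hinv g hg)]
    have h1 := hmove _ hfix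
    have h2 := hmove _ h1
    intro g hg k
    obtain ⟨j, l, hjl⟩ := (show ∀ i : Fin 3, ∃ j l : Fin 3, j ≠ i ∧ l ≠ i ∧ j ≠ l by decide) i
    obtain ⟨hji, hli, hjl⟩ := hjl
    have hcne : ∀ a b : Fin 3, a ≠ b → c a - c b ≠ 0 := by
      subst hc
      have e1 : ω.μ ^ 4 ≠ 1 := ω.pow_ne_one (by norm_num)
      have e2 : ω.μ ≠ 1 := ω.ne_one
      have e3 : ω.μ ^ 4 ≠ ω.μ := fun e => ω.pow_ne_one (k := 3) (by norm_num)
        (mul_right_cancel₀ ω.ne_zero (by linear_combination e))
      intro a b hab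
      refine sub_ne_zero.2 ?_
      fin_cases a <;> fin_cases b <;>
        first | exact absurd rfl hab | simpa using e1 | simpa using e1.symm | simpa using e2 | simpa using e2.symm |
          simpa using e3 | simpa using e3.symm
    have key : (fun m => c m * (c m * v.1 m)) - (c j + c l) • (fun m => c m * v.1 m) + (c j * c l) • v.1 =
        ((c i - c j) * (c i - c l) * v.1 i) • (Pi.single i 1 : Fin 3 → F) := by
      funext m
      obtain rfl | hm : m = i ∨ m ≠ i := eq_or_ne m i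
      · simp; ring
      · have : m = j ∨ m = l :=
          (show ∀ i j l m : Fin 3, j ≠ i → l ≠ i → j ≠ l → m ≠ i → m = j ∨ m = l by decide) i j l m hji hli hjl hm
        rcases this with rfl | rfl <;> simp [hm] <;> ring
    have hfx : (prA ω M g : M3) *ᵥ (Pi.single i 1 : Fin 3 → F) = Pi.single i 1 := by
      have hne : (c i - c j) * (c i - c l) * v.1 i ≠ 0 :=
        mul_ne_zero (mul_ne_zero (hcne _ _ hji.symm) (hcne _ _ hli.symm)) hi
      refine smul_right_injective _ hne ?_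
      dsimp only
      rw [← Matrix.mulVec_smul, ← key, Matrix.mulVec_add, Matrix.mulVec_sub, Matrix.mulVec_smul, Matrix.mulVec_smul,
        h2 g hg, h1 g hg, hfix g hg]
    have := congrFun hfx k
    rw [Matrix.mulVec_single_one] at this
    simpa [Matrix.col, Pi.single_apply] using this
  obtain ⟨i, -, hi⟩ := step ∅ (by simp) (by decide)
  obtain ⟨j, hj, hj'⟩ := step {i} (by simpa using hi) (fun e => by simpa using congrArg Finset.card e)
  obtain ⟨l, hl, hl'⟩ := step {i, j} (by simp [hi, hj']) (fun e => by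
    have h1 := congrArg Finset.card e
    have h2 : ({i, j} : Finset (Fin 3)).card ≤ 2 := Finset.card_le_two
    simp at h1
    omega)
  have hall : ∀ m, Fx m := fun m => by
    have : m = i ∨ m = j ∨ m = l := by
      simp at hj hl
      exact (show ∀ i j l m : Fin 3, j ≠ i → l ≠ i → l ≠ j → m = i ∨ m = j ∨ m = l by decide) i j l m hj hl.1 hl.2
    rcases this with rfl | rfl | rfl
    · exact hi
    · exact hj'
    · exact hl'
  subst hFx
  refine Units.ext ?_
  ext a b
  rw [hall b g hg a, Units.val_one, Matrix.one_apply]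

end CfsgLib.Perm.Trans.UnitFive.Pauli
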