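import Cfsg.Agent.Lib.Perm.Trans.FiveDim.Pauli.Frame

/-!
# Characteristic three: a product of four conjugate half turns has order five

On the sums, the half turn, its conjugate by the Fourier matrix and the conjugate of that by the phase generate an
element of order five.
-/

set_option autoImplicit false
set_option linter.all false

namespace CfsgLib.Perm.Trans.UnitFive.Pauli

open Matrix CfsgLib.Perm.Trans.FiveDim.Pauli

variable {F : Type*} [Field F]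

local notation "M3" => Matrix (Fin 3) (Fin 3) F

theorem mul3 (a b c d e f g h i a' b' c' d' e' f' g' h' i' : F) :
    (!![a, b, c; d, e, f; g, h, i] : M3) * !![a', b', c'; d', e', f'; g', h', i'] =
      !![a * a' + b * d' + c * g', a * b' + b * e' + c * h', a * c' + b * f' + c * i';
         d * a' + e * d' + f * g', d * b' + e * e' + f * h', d * c' + e * f' + f * i';
         g * a' + h * d' + i * g', g * b' + h * e' + i * h', g * c' + h * f' + i * i'] := by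
  ext x y
  fin_cases x <;> fin_cases y <;> simp [Matrix.mul_apply, Fin.sum_univ_three]

theorem lit_ext {a b c d e f g h i a' b' c' d' e' f' g' h' i' : F} (h1 : a = a') (h2 : b = b') (h3 : c = c')
    (h4 : d = d') (h5 : e = e') (h6 : f = f') (h7 : g = g') (h8 : h = h') (h9 : i = i') :
    (!![a, b, c; d, e, f; g, h, i] : M3) = !![a', b', c'; d', e', f'; g', h', i'] := by
  subst h1 h2 h3 h4 h5 h6 h7 h8 h9
  rfl

variable {μ : F} (eq : μ ^ 4 + μ ^ 3 + μ ^ 2 + μ + 1 = 0) (h3 : (3 : F) = 0)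

include eq h3

theorem e_na : (!![1, 2, 2; 1, μ + μ ^ 4, μ ^ 2 + μ ^ 3; 1, μ ^ 2 + μ ^ 3, μ + μ ^ 4] : M3) * !![1, 0, 0; 0, -1, 0; 0, 0, -1] =
    !![1, -2, -2; 1, -μ - μ ^ 4, -μ ^ 2 - μ ^ 3; 1, -μ ^ 2 - μ ^ 3, -μ - μ ^ 4] := by
  have he := eq
  rw [mul3]
  apply lit_ext
  · linear_combination (0) * he + (0) * h3
  · linear_combination (0) * he + (0) * h3
  · linear_combination (0) * he + (0) * h3
  · linear_combination (0) * he + (0) * h3
  · linear_combination (0) * he + (0) * h3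
  · linear_combination (0) * he + (0) * h3
  · linear_combination (0) * he + (0) * h3
  · linear_combination (0) * he + (0) * h3
  · linear_combination (0) * he + (0) * h3

theorem e_nan : (!![1, -2, -2; 1, -μ - μ ^ 4, -μ ^ 2 - μ ^ 3; 1, -μ ^ 2 - μ ^ 3, -μ - μ ^ 4] : M3) * !![1, 2, 2; 1, μ + μ ^ 4, μ ^ 2 + μ ^ 3; 1, μ ^ 2 + μ ^ 3, μ + μ ^ 4] =
    !![0, 1, 1; -1, -1, 1; -1, 1, -1] := by
  have he := eq
  rw [mul3]
  apply lit_ext
  · linear_combination (0) * he + (-1) * h3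
  · linear_combination (-2) * he + (1) * h3
  · linear_combination (-2) * he + (1) * h3
  · linear_combination (-1) * he + (1) * h3
  · linear_combination (3 - 3 * μ - μ ^ 2 + μ ^ 3 - μ ^ 4) * he + (0) * h3
  · linear_combination (-2 + 2 * μ - 2 * μ ^ 3) * he + (1) * h3
  · linear_combination (-1) * he + (1) * h3
  · linear_combination (-2 + 2 * μ - 2 * μ ^ 3) * he + (1) * h3
  · linear_combination (3 - 3 * μ - μ ^ 2 + μ ^ 3 - μ ^ 4) * he + (0) * h3

theorem e_da : (!![1, 0, 0; 0, μ, 0; 0, 0, μ ^ 4] : M3) * !![0, -1, -1; 1, 1, -1; 1, -1, 1] =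
    !![0, -1, -1; μ, μ, -μ; μ ^ 4, -μ ^ 4, μ ^ 4] := by
  have he := eq
  rw [mul3]
  apply lit_ext
  · linear_combination (0) * he + (0) * h3
  · linear_combination (0) * he + (0) * h3
  · linear_combination (0) * he + (0) * h3
  · linear_combination (0) * he + (0) * h3
  · linear_combination (0) * he + (0) * h3
  · linear_combination (0) * he + (0) * h3
  · linear_combination (0) * he + (0) * h3
  · linear_combination (0) * he + (0) * h3
  · linear_combination (0) * he + (0) * h3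

theorem e_dad : (!![0, -1, -1; μ, μ, -μ; μ ^ 4, -μ ^ 4, μ ^ 4] : M3) * !![1, 0, 0; 0, μ ^ 4, 0; 0, 0, μ] =
    !![0, -μ ^ 4, -μ; μ, 1, -μ ^ 2; μ ^ 4, -μ ^ 3, 1] := by
  have he := eq
  rw [mul3]
  apply lit_ext
  · linear_combination (0) * he + (0) * h3
  · linear_combination (0) * he + (0) * h3
  · linear_combination (0) * he + (0) * h3
  · linear_combination (0) * he + (0) * h3
  · linear_combination (-1 + μ) * he + (0) * h3
  · linear_combination (0) * he + (0) * h3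
  · linear_combination (0) * he + (0) * h3
  · linear_combination (μ ^ 3 - μ ^ 4) * he + (0) * h3
  · linear_combination (-1 + μ) * he + (0) * h3

theorem e_aA1 : (!![1, 0, 0; 0, -1, 0; 0, 0, -1] : M3) * !![0, -1, -1; 1, 1, -1; 1, -1, 1] =
    !![0, -1, -1; -1, -1, 1; -1, 1, -1] := by
  have he := eq
  rw [mul3]
  apply lit_ext
  · linear_combination (0) * he + (0) * h3
  · linear_combination (0) * he + (0) * h3
  · linear_combination (0) * he + (0) * h3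
  · linear_combination (0) * he + (0) * h3
  · linear_combination (0) * he + (0) * h3
  · linear_combination (0) * he + (0) * h3
  · linear_combination (0) * he + (0) * h3
  · linear_combination (0) * he + (0) * h3
  · linear_combination (0) * he + (0) * h3

theorem e_aA2 : (!![1, 0, 0; 0, -1, 0; 0, 0, -1] : M3) * !![0, -μ ^ 4, -μ; μ, 1, -μ ^ 2; μ ^ 4, -μ ^ 3, 1] =
    !![0, -μ ^ 4, -μ; -μ, -1, μ ^ 2; -μ ^ 4, μ ^ 3, -1] := by
  have he := eq
  rw [mul3]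
  apply lit_ext
  · linear_combination (0) * he + (0) * h3
  · linear_combination (0) * he + (0) * h3
  · linear_combination (0) * he + (0) * h3
  · linear_combination (0) * he + (0) * h3
  · linear_combination (0) * he + (0) * h3
  · linear_combination (0) * he + (0) * h3
  · linear_combination (0) * he + (0) * h3
  · linear_combination (0) * he + (0) * h3
  · linear_combination (0) * he + (0) * h3

theorem e_X : (!![0, -1, -1; -1, -1, 1; -1, 1, -1] : M3) * !![0, -μ ^ 4, -μ; -μ, -1, μ ^ 2; -μ ^ 4, μ ^ 3, -1] =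
    !![-1 - μ ^ 2 - μ ^ 3, 1 - μ ^ 3, 1 - μ ^ 2; 1 - μ + μ ^ 2 + μ ^ 3, -μ - μ ^ 2, -1 + μ - μ ^ 2; -1 + μ - μ ^ 2 - μ ^ 3, 1 - μ - μ ^ 2 + μ ^ 3, 1 + μ + μ ^ 2] := by
  have he := eq
  rw [mul3]
  apply lit_ext
  · linear_combination (1) * he + (0) * h3
  · linear_combination (0) * he + (0) * h3
  · linear_combination (0) * he + (0) * h3
  · linear_combination (-1) * he + (μ) * h3
  · linear_combination (1) * he + (0) * h3
  · linear_combination (0) * he + (0) * h3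
  · linear_combination (1) * he + (-μ) * h3
  · linear_combination (1) * he + (-1 - μ ^ 3) * h3
  · linear_combination (0) * he + (0) * h3

theorem e_XX : (!![-1 - μ ^ 2 - μ ^ 3, 1 - μ ^ 3, 1 - μ ^ 2; 1 - μ + μ ^ 2 + μ ^ 3, -μ - μ ^ 2, -1 + μ - μ ^ 2; -1 + μ - μ ^ 2 - μ ^ 3, 1 - μ - μ ^ 2 + μ ^ 3, 1 + μ + μ ^ 2] : M3) * !![-1 - μ ^ 2 - μ ^ 3, 1 - μ ^ 3, 1 - μ ^ 2; 1 - μ + μ ^ 2 + μ ^ 3, -μ - μ ^ 2, -1 + μ - μ ^ 2; -1 + μ - μ ^ 2 - μ ^ 3, 1 - μ - μ ^ 2 + μ ^ 3, 1 + μ + μ ^ 2] =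
    !![0, -1, -1; -μ, -μ, μ; -μ ^ 4, μ ^ 4, -μ ^ 4] := by
  have he := eq
  rw [mul3]
  apply lit_ext
  · linear_combination (1 + 2 * μ) * he + (-μ - μ ^ 3) * h3
  · linear_combination (1 + μ ^ 2) * he + (-μ - 2 * μ ^ 2) * h3
  · linear_combination (-3 + 2 * μ) * he + (1 + μ) * h3
  · linear_combination (-μ - μ ^ 2) * he + (μ ^ 2) * h3
  · linear_combination (6 - μ - μ ^ 2) * he + (-2 - μ - μ ^ 2 - μ ^ 3) * h3
  · linear_combination (-μ) * he + (μ ^ 3) * h3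
  · linear_combination (-5 - μ + 2 * μ ^ 2) * he + (2 + μ + 2 * μ ^ 2 + 2 * μ ^ 3) * h3
  · linear_combination (-3 + μ ^ 2) * he + (1 + μ + μ ^ 3) * h3
  · linear_combination (5) * he + (-2 - μ ^ 2 - 2 * μ ^ 3) * h3

theorem e_Y2 : (!![0, -1, -1; -μ, -μ, μ; -μ ^ 4, μ ^ 4, -μ ^ 4] : M3) * !![0, -1, -1; -μ, -μ, μ; -μ ^ 4, μ ^ 4, -μ ^ 4] =
    !![-1 - μ ^ 2 - μ ^ 3, 1 - μ + μ ^ 2 + μ ^ 3, -1 + μ - μ ^ 2 - μ ^ 3; -1 + μ ^ 2, 1 + μ + μ ^ 2, -1 + μ - μ ^ 2; -1 + μ ^ 3, 1 - μ - μ ^ 2 + μ ^ 3, -μ - μ ^ 2] := by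
  have he := eq
  rw [mul3]
  apply lit_ext
  · linear_combination (1) * he + (0) * h3
  · linear_combination (-1) * he + (μ) * h3
  · linear_combination (1) * he + (-μ) * h3
  · linear_combination (1 - μ) * he + (0) * h3
  · linear_combination (-1 + μ) * he + (0) * h3
  · linear_combination (1 - μ) * he + (0) * h3
  · linear_combination (1 - μ - μ ^ 3 + μ ^ 4) * he + (0) * h3
  · linear_combination (2 - μ + μ ^ 3 - μ ^ 4) * he + (-1 - μ ^ 3) * h3
  · linear_combination (μ - μ ^ 3 + μ ^ 4) * he + (0) * h3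

theorem e_Y4 : (!![-1 - μ ^ 2 - μ ^ 3, 1 - μ + μ ^ 2 + μ ^ 3, -1 + μ - μ ^ 2 - μ ^ 3; -1 + μ ^ 2, 1 + μ + μ ^ 2, -1 + μ - μ ^ 2; -1 + μ ^ 3, 1 - μ - μ ^ 2 + μ ^ 3, -μ - μ ^ 2] : M3) * !![-1 - μ ^ 2 - μ ^ 3, 1 - μ + μ ^ 2 + μ ^ 3, -1 + μ - μ ^ 2 - μ ^ 3; -1 + μ ^ 2, 1 + μ + μ ^ 2, -1 + μ - μ ^ 2; -1 + μ ^ 3, 1 - μ - μ ^ 2 + μ ^ 3, -μ - μ ^ 2] =
    !![0, -1 - μ - μ ^ 2 - μ ^ 3, μ; 1, 1 + μ + μ ^ 2 + μ ^ 3, μ; 1, -1 - μ - μ ^ 2 - μ ^ 3, -μ] := by
  have he := eq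
  rw [mul3]
  apply lit_ext
  · linear_combination (1 + 2 * μ) * he + (-μ - μ ^ 3) * h3
  · linear_combination (6 + μ - 2 * μ ^ 2) * he + (-2 - μ - 2 * μ ^ 2 - 2 * μ ^ 3) * h3
  · linear_combination (μ + μ ^ 2) * he + (-μ ^ 2) * h3
  · linear_combination (3 - 2 * μ) * he + (-1 - μ) * h3
  · linear_combination (4) * he + (-2 - μ ^ 2 - 2 * μ ^ 3) * h3
  · linear_combination (-μ) * he + (μ ^ 3) * h3
  · linear_combination (-1 - μ ^ 2) * he + (μ + 2 * μ ^ 2) * h3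
  · linear_combination (-2 + μ ^ 2) * he + (1 + μ + μ ^ 3) * h3
  · linear_combination (6 - μ - μ ^ 2) * he + (-2 - μ - μ ^ 2 - μ ^ 3) * h3

theorem e_Y5 : (!![0, -1 - μ - μ ^ 2 - μ ^ 3, μ; 1, 1 + μ + μ ^ 2 + μ ^ 3, μ; 1, -1 - μ - μ ^ 2 - μ ^ 3, -μ] : M3) * !![0, -1, -1; -μ, -μ, μ; -μ ^ 4, μ ^ 4, -μ ^ 4] =
    !![1, 0, 0; 0, 1, 0; 0, 0, 1] := by
  have he := eq
  rw [mul3]
  apply lit_ext
  · linear_combination (2 - μ) * he + (-1) * h3
  · linear_combination (μ) * he + (0) * h3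
  · linear_combination (-μ) * he + (0) * h3
  · linear_combination (-μ) * he + (0) * h3
  · linear_combination (-2 + μ) * he + (0) * h3
  · linear_combination (2 - μ) * he + (-1) * h3
  · linear_combination (μ) * he + (0) * h3
  · linear_combination (2 - μ) * he + (-1) * h3
  · linear_combination (-2 + μ) * he + (0) * h3

omit eq h3

/-- the element of order five -/
theorem half_turn_three (ω : Root F) (h3 : (3 : F) = 0) :
    ∀ P a δ δi G1 G2 X : M3, P = (-ω.η⁻¹) • !![1, 2, 2; 1, ω.γ1, ω.γ2; 1, ω.γ2, ω.γ1] →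
      a = Matrix.diagonal ![1, -1, -1] → δ = Matrix.diagonal ![1, ω.μ, ω.μ ^ 4] →
      δi = Matrix.diagonal ![1, ω.μ ^ 4, ω.μ] → G1 = P * a * P → G2 = δ * G1 * δi → X = a * G1 * (a * G2) →
      (X * X) ^ 5 = 1 ∧ (X * X) 0 0 ≠ 1 := by
  intro P a δ δi G1 G2 X hP ha hδ hδi hG1 hG2 hX
  have he := ω.eq
  have hd3 : ∀ x y z : F, Matrix.diagonal ![x, y, z] = (!![x, 0, 0; 0, y, 0; 0, 0, z] : M3) := fun x y z => by
    ext i j
    fin_cases i <;> fin_cases j <;> simp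
  rw [hd3] at ha hδ hδi
  have h5 : ω.η⁻¹ * ω.η⁻¹ = (-1 : F) := by
    rw [← mul_inv, ω.η_sq]
    refine inv_eq_of_mul_eq_one_right ?_
    linear_combination (-2 : F) * h3
  have e1 : G1 = !![0, -1, -1; 1, 1, -1; 1, -1, 1] := by
    rw [hG1, hP, Matrix.smul_mul, Matrix.smul_mul, Matrix.mul_smul, smul_smul, neg_mul_neg, h5, ha, Root.γ1, Root.γ2,
      e_na he h3, e_nan he h3]
    ext i j
    fin_cases i <;> fin_cases j <;> simp
  have e2 : X * X = !![0, -1, -1; -ω.μ, -ω.μ, ω.μ; -ω.μ ^ 4, ω.μ ^ 4, -ω.μ ^ 4] := by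
    rw [hX, hG2, e1, hδ, hδi, e_da he h3, e_dad he h3, ha, e_aA1 he h3, e_aA2 he h3, e_X he h3, e_XX he h3]
  rw [e2]
  refine ⟨?_, by simp⟩
  rw [show (5 : ℕ) = 2 * 2 + 1 from rfl, pow_succ, pow_mul, sq, sq, e_Y2 he h3, e_Y4 he h3, e_Y5 he h3]
  ext i j
  fin_cases i <;> fin_cases j <;> simp

end CfsgLib.Perm.Trans.UnitFive.Pauli
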