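import Cfsg.Agent.Lib.Perm.Trans.UnitFive.Pauli.Trans
import Cfsg.Agent.Lib.Perm.Trans.UnitFive.Pauli.CenBase
import Cfsg.Agent.Lib.Perm.Trans.UnitFive.Pauli.Three
import Cfsg.Agent.Lib.Perm.Trans.FiveDim.Pauli.Kernel
import Cfsg.Agent.Lib.Char.SmallGraph.Coprime

/-!
# The centraliser of the parity in unitary groups: the differences determine everything

Symmetric elements commuting with the phase are monomial on each pair, no half turn fixes the differences, and so
the projection on the differences is injective.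
-/

set_option autoImplicit false
set_option linter.all false

namespace CfsgLib.Perm.Trans.UnitFive.Pauli

open scoped Matrix
open Matrix CfsgLib.Perm.Trans.FiveDim.Pauli

variable {F : Type*} [Field F] [Fintype F] {q : ℕ}

local notation "M2" => Matrix (Fin 2) (Fin 2) F
local notation "M3" => Matrix (Fin 3) (Fin 3) F
local notation "M5" => Matrix (Fin 5) (Fin 5) F
local notation "G5" => GL (Fin 5) F

variable {ω : Root F} {M : Subgroup (GL (Fin 5) F)}

/-- the first pair of a symmetric element in the centraliser of the phase is monomial -/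
theorem UCtx5.first_pair (h : UCtx5 ω q M) {y : G5} (hy : y ∈ M) (hq : y * gQ ω = gQ ω * y)
    (hs : Sym (y : M5)) : (y : M5) 1 1 * (y : M5) 1 4 = 0 := by
  have hG : (pr1 ω M).range ≤ Cfsg.GU 2 F q := by rintro _ ⟨g, rfl⟩; exact pr1_mem h g
  obtain ⟨-, -, -, -, e44, e41, -, -, -, -, -, -⟩ := hs.vals
  refine sym_mul_eq_zero h.qcase hG (not_big_pr1 h) (d := pr1 ω M (cD h)) (w := pr1 ω M (cT h)) ⟨_, rfl⟩ ⟨_, rfl⟩
    ω.pow5 ω.ne_one (pr1_cD h) ω.two (pr1_cT h) (g := pr1 ω M ⟨y, mem_Cq.2 ⟨hy, hq⟩⟩) ⟨_, rfl⟩ ?_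
  rw [val_pr1]
  ext i j
  fin_cases i <;> fin_cases j <;> simp [p1, e44, e41]

/-- both pairs -/
theorem UCtx5.both_pairs (h : UCtx5 ω q M) {y : G5} (hy : y ∈ M) (hq : y * gQ ω = gQ ω * y)
    (hs : Sym (y : M5)) : (y : M5) 1 1 * (y : M5) 1 4 = 0 ∧ (y : M5) 2 2 * (y : M5) 2 3 = 0 := by
  refine ⟨h.first_pair hy hq hs, ?_⟩
  have hWT : gW ω * gT ω = gT ω * gW ω := by rw [← gW_sq, mul_assoc]
  have hwi : (gW ω)⁻¹ = gT ω * gW ω :=
    inv_eq_of_mul_eq_one_right (by rw [← mul_assoc, hWT, mul_assoc, gW_sq, gT_sq])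
  have hy' : gW ω * y * (gW ω)⁻¹ ∈ M := mul_mem (mul_mem h.memW hy) (inv_mem h.memW)
  have hq' : Commute (gW ω * y * (gW ω)⁻¹) (gQ ω) := by
    have hW4 : gW ω * gQ ω ^ 4 * (gW ω)⁻¹ = gQ ω := by
      rw [← conj_pow, gW_mul_gQ, mul_inv_cancel_right, ← pow_mul, pow_eq_pow_mod (4 * 4) (gQ_pow_five ω)]
      norm_num
    rw [← hW4]
    show _ * _ = _ * _
    rw [conj_mul, conj_mul, ((show Commute y (gQ ω) from hq).pow_right 4).eq]
  have hs' : Sym ((gW ω * y * (gW ω)⁻¹ : G5) : M5) := by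
    refine sym_of_comm ?_
    have h1 : Commute y (gT ω) := Units.ext (by rw [Units.val_mul, Units.val_mul, val_gT, comm_of_sym hs])
    have h2 : Commute (gW ω) (gT ω) := hWT
    simpa [val_gT] using congrArg Units.val ((h2.mul_left h1).mul_left h2.inv_left).eq
  have h' := h.first_pair hy' hq'.eq hs'
  have hv : ((gW ω * y * (gW ω)⁻¹ : G5) : M5) = wm * (y : M5) * (tm * wm) := by
    rw [hwi, Units.val_mul, Units.val_mul, Units.val_mul, val_gW, val_gT]
  obtain ⟨-, -, -, -, -, -, -, -, -, -, e33, e32⟩ := hs.vals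
  rw [hv] at h'
  simp [wm, tm, Matrix.mul_apply, Matrix.vecMul, dotProduct, Fin.sum_univ_five, e33, e32] at h'
  simpa [mul_comm] using h'

theorem prA_tQ_pow (h : UCtx5 ω q M) (k : ℕ) :
    (prA ω M (tQ h ^ k) : M3) = Matrix.diagonal ![1, ω.μ ^ k, (ω.μ ^ k) ^ 4] := by
  rw [val_prA, SubgroupClass.coe_pow]
  show Am ((gQ ω ^ k : G5) : M5) = _
  rw [val_gQ_pow, Am_qd]

theorem prA_tQ (h : UCtx5 ω q M) : (prA ω M (tQ h) : M3) = Matrix.diagonal ![1, ω.μ, ω.μ ^ 4] := by
  rw [val_prA]; exact Am_qd _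

theorem prA_tW (h : UCtx5 ω q M) : (prA ω M (tW h) : M3) = !![-1, 0, 0; 0, 0, -1; 0, -1, 0] := by
  rw [val_prA]; exact Am_wm

theorem prA_tP (h : UCtx5 ω q M) :
    (prA ω M (tP h) : M3) = (-ω.η⁻¹) • !![1, 2, 2; 1, ω.γ1, ω.γ2; 1, ω.γ2, ω.γ1] := by
  rw [val_prA]; exact Am_fm ω

theorem prB_tQ (h : UCtx5 ω q M) : (prB ω M (tQ h) : M2) = Matrix.diagonal ![ω.μ, ω.μ ^ 4] := by
  rw [val_prB]; exact Bm_qd _

theorem prB_tW (h : UCtx5 ω q M) : (prB ω M (tW h) : M2) = !![0, 1; -1, 0] := by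
  rw [val_prB]; exact Bm_wm

theorem prB_tP (h : UCtx5 ω q M) : (prB ω M (tP h) : M2) =
    (-ω.η⁻¹) • !![ω.μ - ω.μ ^ 4, ω.μ ^ 2 - ω.μ ^ 3; ω.μ ^ 2 - ω.μ ^ 3, ω.μ ^ 4 - ω.μ] := by
  rw [val_prB]; exact Bm_fm ω

theorem prA_tP_inv (h : UCtx5 ω q M) :
    (((prA ω M (tP h))⁻¹ : GL (Fin 3) F) : M3) = (prA ω M (tP h) : M3) :=
  left_inv_eq_right_inv (Units.inv_mul _) (by
    rw [val_prA]; show Am (fm ω) * Am (fm ω) = 1; rw [← Am_mul _ (sym_fm ω), fm_sq, Am_tm])

theorem tQ_pow_five (h : UCtx5 ω q M) : tQ h ^ 5 = 1 :=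
  Subtype.ext (by rw [SubgroupClass.coe_pow]; exact gQ_pow_five ω)

theorem orderOf_tQ (h : UCtx5 ω q M) : orderOf (tQ h) = 5 := by
  haveI : Fact (Nat.Prime 5) := ⟨by norm_num⟩
  refine orderOf_eq_prime (tQ_pow_five h) fun e => ?_
  have h1 := congrFun (congrFun (congrArg (fun g : Dt ω M => (prA ω M g : M3)) e) 1) 1
  simp [prA_tQ] at h1
  exact ω.ne_one h1

/-- the sums of an element fixing the differences and commuting with the phase -/
theorem diag_of_comm (h : UCtx5 ω q M) {y : Dt ω M} (hB : prB ω M y = 1) (hcomm : y * tQ h = tQ h * y) :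
    ∃ a b c : F, (prA ω M y : M3) = Matrix.diagonal ![a, b, c] ∧ b * b = 1 ∧ c * c = 1 ∧ a * b * c = 1 := by
  have hq : (y : G5) * gQ ω = gQ ω * (y : G5) := congrArg Subtype.val hcomm
  obtain ⟨h1, h2⟩ := h.both_pairs (mem_Dt.1 y.2).1 hq (sym_Dt y)
  obtain ⟨z1, z2, z3, z4, z5, z6, z7, z8, z9, w1, w2, w3, w4, w5, w6, w7⟩ :=
    blocked_of_comm (ω := ω) (g := ((y : G5) : M5)) (by simpa [val_gQ] using congrArg Units.val hq)
  have hBv := congrArg Units.val hB
  have b00 := congrFun (congrFun hBv 0) 0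
  have b11 := congrFun (congrFun hBv 1) 1
  simp [val_prB, Bm] at b00 b11
  obtain ⟨a, b, c, hA, hb, hc⟩ : ∃ a b c : F, (prA ω M y : M3) = Matrix.diagonal ![a, b, c] ∧
      b * b = 1 ∧ c * c = 1 := by
    refine ⟨((y : G5) : M5) 0 0, ((y : G5) : M5) 1 1 + ((y : G5) : M5) 1 4,
      ((y : G5) : M5) 2 2 + ((y : G5) : M5) 2 3, ?_, ?_, ?_⟩
    · rw [val_prA]
      ext i j; fin_cases i <;> fin_cases j <;> simp [Am, *]
    · linear_combination (((y : G5) : M5) 1 1 - ((y : G5) : M5) 1 4 + 1) * b00 + 4 * h1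
    · linear_combination (((y : G5) : M5) 2 2 - ((y : G5) : M5) 2 3 + 1) * b11 + 4 * h2
  refine ⟨a, b, c, hA, hb, hc, ?_⟩
  have hd := h.det _ (mem_Dt.1 y.2).1
  rw [det_parts ω.two (sym_Dt y), ← val_prA, ← val_prB, hA, hB, Units.val_one, Matrix.det_one, mul_one,
    Matrix.det_diagonal, Fin.prod_univ_three] at hd
  simpa using hd

theorem sq_eq_one_of_comm (h : UCtx5 ω q M) {y : Dt ω M} (hB : prB ω M y = 1)
    (hcomm : y * tQ h = tQ h * y) : y * y = 1 := by
  obtain ⟨a, b, c, hA, hb, hc, habc⟩ := diag_of_comm h hB hcomm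
  refine eq_of_pr (Units.ext ?_) (by rw [map_mul, hB, mul_one, map_one])
  have ha : a * a = 1 := by linear_combination (a * b * c + 1) * habc - a * a * hb * (c * c) - a * a * hc
  rw [map_mul, Units.val_mul, hA, Matrix.diagonal_mul_diagonal, map_one, Units.val_one, ← Matrix.diagonal_one]
  congr 1
  funext i
  fin_cases i <;> simp [ha, hb, hc]

/-- five does not divide the order of the kernel -/
theorem not_five_dvd_ker (h : UCtx5 ω q M) : ¬ 5 ∣ Nat.card (prB ω M).ker := by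
  classical
  intro hdvd
  haveI : Fact (Nat.Prime 5) := ⟨by norm_num⟩
  obtain ⟨φ, hφ⟩ : ∃ φ : MulAut (prB ω M).ker, φ = MulAut.conjNormal (tQ h) := ⟨_, rfl⟩
  have hφ5 : φ ^ 5 = 1 := by rw [hφ, ← map_pow, tQ_pow_five h, map_one]
  let σ : Equiv.Perm (Sylow 5 (prB ω M).ker) := MulAction.toPermHom (MulAut (prB ω M).ker) (Sylow 5 (prB ω M).ker) φ
  have hσ : σ ^ 5 = 1 := by rw [← map_pow, hφ5, map_one]
  obtain ⟨⟨P, hP⟩⟩ : Nonempty {P : Sylow 5 (prB ω M).ker // σ P = P} := by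
    refine (Nat.card_pos_iff.1 (Nat.pos_of_ne_zero fun h0 => ?_)).1
    have hmod := (card_sylow_modEq_one 5 (prB ω M).ker).symm.trans (CfsgLib.Char.SmallGraph.card_fixed_modEq σ hσ)
    rw [h0] at hmod
    exact absurd hmod (by decide)
  have hP' : φ • P = P := hP
  have hmem : ∀ g ∈ (P : Subgroup (prB ω M).ker), φ g ∈ (P : Subgroup (prB ω M).ker) := fun g hg => by
    rw [← hP']
    exact Subgroup.smul_mem_pointwise_smul g φ _ hg
  let f : ↥(P : Subgroup (prB ω M).ker) → ↥(P : Subgroup (prB ω M).ker) := fun g => ⟨φ g, hmem g g.2⟩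
  have hfi : Function.Injective f := fun a b e => Subtype.ext (φ.injective (congrArg Subtype.val e))
  let τ : Equiv.Perm (P : Subgroup (prB ω M).ker) := Equiv.ofBijective f (Finite.injective_iff_bijective.1 hfi)
  have hτk : ∀ (k : ℕ) (g : (P : Subgroup (prB ω M).ker)),
      (((τ ^ k) g : (P : Subgroup (prB ω M).ker)) : (prB ω M).ker) = (φ ^ k) (g : (prB ω M).ker) := by
    intro k
    induction k with
    | zero => intro g; simp
    | succ k ih =>
      intro g
      rw [pow_succ', Equiv.Perm.mul_apply, pow_succ', MulAut.mul_apply, ← ih]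
      rfl
  have hτ : τ ^ 5 = 1 := Equiv.ext fun g => Subtype.ext (by rw [hτk, hφ5]; rfl)
  have hmod := CfsgLib.Char.SmallGraph.card_fixed_modEq τ hτ
  have h5P : 5 ∣ Nat.card (P : Subgroup (prB ω M).ker) := P.dvd_card_of_dvd_card hdvd
  haveI : Nonempty {g : (P : Subgroup (prB ω M).ker) // τ g = g} := ⟨⟨1, Subtype.ext (map_one φ)⟩⟩
  have h5fix : 5 ∣ Nat.card {g : (P : Subgroup (prB ω M).ker) // τ g = g} :=
    Nat.modEq_zero_iff_dvd.1 (hmod.symm.trans (Nat.modEq_zero_iff_dvd.2 h5P))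
  haveI : Nontrivial {g : (P : Subgroup (prB ω M).ker) // τ g = g} := by
    rw [← Finite.one_lt_card_iff_nontrivial]
    have := Nat.le_of_dvd Nat.card_pos h5fix
    omega
  obtain ⟨⟨g, hg⟩, hgne⟩ := exists_ne (⟨1, Subtype.ext (map_one φ)⟩ : {g : (P : Subgroup (prB ω M).ker) // τ g = g})
  obtain ⟨y, hy⟩ : ∃ y : Dt ω M, y = ((g : (prB ω M).ker) : Dt ω M) := ⟨_, rfl⟩
  have hyB : prB ω M y = 1 := hy ▸ (g : (prB ω M).ker).2
  have hyc : y * tQ h = tQ h * y := by
    have e : φ (g : (prB ω M).ker) = (g : (prB ω M).ker) := congrArg Subtype.val hg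
    have e' : tQ h * y * (tQ h)⁻¹ = y := by
      have e2 := congrArg Subtype.val e
      rw [hφ, MulAut.conjNormal_apply] at e2
      rw [hy]
      exact e2
    exact (mul_inv_eq_iff_eq_mul.1 e').symm
  have hy2 := sq_eq_one_of_comm h hyB hyc
  obtain ⟨m, hm⟩ := P.isPGroup' g
  have hy5 : y ^ 5 ^ m = 1 := by
    rw [hy]
    exact congrArg (fun t : (P : Subgroup (prB ω M).ker) => ((t : (prB ω M).ker) : Dt ω M)) hm
  refine hgne (Subtype.ext (Subtype.ext (Subtype.ext ?_)))
  show ((g : (prB ω M).ker) : Dt ω M) = 1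
  rw [← hy]
  obtain ⟨r, hr⟩ : Odd (5 ^ m) := Odd.pow (by decide)
  rw [hr, pow_succ, pow_mul, pow_two, hy2, one_pow, one_mul] at hy5
  exact hy5

/-- the characteristic does not divide the order of the kernel -/
theorem not_char_dvd_ker (h : UCtx5 ω q M) {p : ℕ} [hp : Fact p.Prime] [CharP F p] :
    ¬ p ∣ Nat.card (prB ω M).ker := by
  classical
  haveI : Fact (Nat.Prime 5) := ⟨by norm_num⟩
  intro hdvd
  obtain ⟨P, hPle, hPinv, hPcard⟩ :=
    CfsgLib.Char.SmallGraph.exists_invariant_sylow (q := p) (orderOf_tQ h) (prB ω M).ker (not_five_dvd_ker h)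
  have hbot : P = ⊥ := by
    rw [eq_bot_iff]
    intro g hg
    rw [Subgroup.mem_bot]
    refine eq_of_pr ?_ ?_
    · rw [eq_one_of_pgroup h (IsPGroup.of_card hPcard) (prA_tQ h) hPinv hg, map_one]
    · rw [map_one]; exact hPle hg
  rw [hbot, Subgroup.card_bot] at hPcard
  have hv : 1 ≤ (Nat.card (prB ω M).ker).factorization p := hp.out.factorization_pos_of_dvd Nat.card_pos.ne' hdvd
  have := Nat.one_lt_pow (by omega : (Nat.card (prB ω M).ker).factorization p ≠ 0) hp.out.one_lt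
  omega

/-- no element of the group is minus one on two of the lines of the sums and fixes the rest -/
theorem UCtx5.no_half_turn (h : UCtx5 ω q M) (g : Dt ω M)
    (hA : (prA ω M g : M3) = Matrix.diagonal ![1, -1, -1]) (hB : prB ω M g = 1) : False := by
  classical
  obtain ⟨-, p, hp, hchar, hcase⟩ := h.qcase
  haveI : Fact p.Prime := ⟨hp⟩
  haveI := hchar
  have h5 := ω.pow5
  have hp2 : p ≠ 2 := fun e => ω.two (by subst e; exact_mod_cast CharP.cast_eq_zero F 2)
  have hp5 : p ≠ 5 := fun e => ω.five (by subst e; exact_mod_cast CharP.cast_eq_zero F 5)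
  by_cases hp3 : p = 3
  · subst hp3
    have h3 : (3 : F) = 0 := by exact_mod_cast CharP.cast_eq_zero F 3
    obtain ⟨x, hx⟩ : ∃ x, x = g * (tP h * g * (tP h)⁻¹) *
        (g * (tQ h * (tP h * g * (tP h)⁻¹) * (tQ h)⁻¹)) := ⟨_, rfl⟩
    have hQi : (((prA ω M (tQ h))⁻¹ : GL (Fin 3) F) : M3) = Matrix.diagonal ![1, ω.μ ^ 4, ω.μ] :=
      left_inv_eq_right_inv (Units.inv_mul _) (by
        rw [prA_tQ, Matrix.diagonal_mul_diagonal, ← Matrix.diagonal_one]
        congr 1; funext i; fin_cases i <;> simp <;> linear_combination ω.pow5)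
    obtain ⟨hx5, hx1⟩ := half_turn_three ω h3 _ _ _ _ _ _ (prA ω M x : M3) (prA_tP h) hA (prA_tQ h) hQi rfl rfl (by
      rw [hx]; simp only [map_mul, map_inv, Units.val_mul, prA_tP_inv, mul_assoc])
    have hxB : prB ω M x = 1 := by simp [hx, hB]
    have hy5 : (x * x) ^ 5 = 1 := eq_of_pr (Units.ext (by
        rw [map_pow, map_mul, Units.val_pow_eq_pow_val, Units.val_mul, map_one, Units.val_one]; exact hx5))
      (by rw [map_pow, map_mul, hxB, one_mul, one_pow, map_one])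
    have hy1 : x * x ≠ 1 := fun e => hx1 (by
      rw [← Units.val_mul, ← map_mul, e, map_one]; simp)
    refine not_five_dvd_ker h ?_
    haveI : Fact (Nat.Prime 5) := ⟨by norm_num⟩
    have hd := Subgroup.orderOf_dvd_natCard (prB ω M).ker (x := x * x)
      (MonoidHom.mem_ker.2 (by rw [map_mul, hxB, one_mul]))
    rwa [orderOf_eq_prime hy5 hy1] at hd
  set Q₂ := tQ h ^ 2 with hQ₂
  obtain ⟨X₀, hX₀⟩ : ∃ X₀, X₀ = Subgroup.closure ({Q₂, tW h, tP h, g} : Set (Dt ω M)) := ⟨_, rfl⟩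
  have m1 : Q₂ ∈ X₀ := hX₀ ▸ Subgroup.subset_closure (by simp)
  have m2 : tW h ∈ X₀ := hX₀ ▸ Subgroup.subset_closure (by simp)
  have m3 : tP h ∈ X₀ := hX₀ ▸ Subgroup.subset_closure (by simp)
  have m4 : g ∈ X₀ := hX₀ ▸ Subgroup.subset_closure (by simp)
  obtain ⟨X, hX⟩ : ∃ X, X = X₀.map (prA ω M) := ⟨_, rfl⟩
  have hδv : (prA ω M Q₂ : M3) = Matrix.diagonal ![1, ω.μ ^ 2, ω.μ ^ 3] := by
    rw [hQ₂, prA_tQ_pow, show (ω.μ ^ 2) ^ 4 = ω.μ ^ 3 by linear_combination (ω.μ ^ 3) * h5]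
  have hWv := prA_tW h
  have hΦv := prA_tP h
  have hη0 := ω.η_ne_zero
  have hdvd : p ∣ Nat.card X := by
    refine dvd_card_of_half_turn (δ := prA ω M Q₂) (W := prA ω M (tW h)) (Φ := prA ω M (tP h)) (a := prA ω M g)
      (hX ▸ Subgroup.mem_map_of_mem _ m1) (hX ▸ Subgroup.mem_map_of_mem _ m2) (hX ▸ Subgroup.mem_map_of_mem _ m3)
      (hX ▸ Subgroup.mem_map_of_mem _ m4) ?_ ?_ ?_ ?_ ?_ ?_ ?_ ?_ ?_ ?_ ?_
    · rw [hQ₂, ← map_pow, ← pow_mul]
      refine Units.ext ?_
      rw [prA_tQ_pow, pow_mul', h5, one_pow, one_pow, Units.val_one, ← Matrix.diagonal_one]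
      congr 1; funext i; fin_cases i <;> simp
    · refine Units.ext ?_
      rw [Units.val_mul, hWv, Units.val_one]
      ext i j; fin_cases i <;> fin_cases j <;> simp [Matrix.mul_apply, Fin.sum_univ_three]
    · refine Units.ext ?_
      rw [Units.val_mul, Units.val_mul, Units.val_mul, hWv, hδv, Units.val_one]
      ext i j; fin_cases i <;> fin_cases j <;>
        simp [Matrix.mul_apply, Matrix.vecMul, dotProduct, Fin.sum_univ_three, Matrix.diagonal_apply] <;>
        linear_combination h5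
    · refine Units.ext ?_
      rw [Units.val_mul, Units.val_mul, hA, hδv, Matrix.diagonal_mul_diagonal, Matrix.diagonal_mul_diagonal]
      simp only [mul_comm]
    · refine Units.ext ?_
      rw [Units.val_mul, Units.val_mul, hA, hWv]
      ext i j; fin_cases i <;> fin_cases j <;>
        simp [Matrix.mul_apply, Matrix.vecMul, dotProduct, Fin.sum_univ_three, Matrix.diagonal_apply]
    · refine Units.ext ?_
      rw [Units.val_mul, hA, Matrix.diagonal_mul_diagonal, Units.val_one, ← Matrix.diagonal_one]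
      congr 1; funext i; fin_cases i <;> simp
    · refine Units.ext ?_
      rw [Units.val_mul, val_prA]
      show Am (fm ω) * Am (fm ω) = _
      rw [← Am_mul _ (sym_fm ω), fm_sq, Am_tm, Units.val_one]
    · refine Units.ext ?_
      rw [Units.val_mul, Units.val_mul, hWv, hΦv]
      ext i j; fin_cases i <;> fin_cases j <;>
        simp [Matrix.mul_apply, Matrix.vecMul, dotProduct, Fin.sum_univ_three] <;> ring
    · refine Units.ext ?_
      rw [Units.val_pow_eq_pow_val, Units.val_mul, hδv, hΦv, Units.val_one]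
      exact fourier_phase_cube ω
    · intro e
      have := congrArg (fun x : GL (Fin 3) F => (x : M3) 0 1) e
      rw [Units.val_mul, Units.val_mul, hδv, hΦv] at this
      simp [Matrix.mul_apply, Matrix.vecMul, dotProduct, Fin.sum_univ_three, Matrix.diagonal_apply, hη0, ω.two] at this
      exact ω.pow_ne_one (k := 2) (by norm_num) (by rcases this with h | h <;> simp [h])
    · intro e
      have := congrArg (fun x : GL (Fin 3) F => (x : M3) 0 1) e
      rw [Units.val_mul, Units.val_mul, hA, hΦv] at this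
      simp [Matrix.mul_apply, Matrix.vecMul, dotProduct, Fin.sum_univ_three, Matrix.diagonal_apply, hη0, ω.two] at this
      refine mul_ne_zero (mul_ne_zero ω.two ω.two) (inv_ne_zero hη0) ?_
      linear_combination -this
  -- an element of order `p` fixes the differences
  obtain ⟨e, he⟩ := exists_prime_orderOf_dvd_card' (G := X₀) p
    (hdvd.trans (hX ▸ Subgroup.card_map_dvd X₀ (prA ω M)))
  obtain ⟨Y, hY⟩ : ∃ Y, Y = Subgroup.closure ({tQ h, tW h, tP h} : Set (Dt ω M)) := ⟨_, rfl⟩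
  have hYN : Y ≤ (Subgroup.normalizer (gR ω : Set G5)).comap (Dt ω M).subtype := by
    subst hY
    rw [Subgroup.closure_le]
    obtain ⟨nQ, nW, nP⟩ := mem_normalizer_gR ω
    rintro _ (rfl | rfl | rfl)
    exacts [nQ, nW, nP]
  have hXY : X₀ ≤ (Y.map (prB ω M)).comap (prB ω M) := by
    subst hX₀ hY
    rw [Subgroup.closure_le]
    rintro _ (rfl | rfl | rfl | rfl)
    · rw [hQ₂]; exact ⟨_, pow_mem (Subgroup.subset_closure (by simp)) 2, rfl⟩
    · exact ⟨_, Subgroup.subset_closure (by simp), rfl⟩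
    · exact ⟨_, Subgroup.subset_closure (by simp), rfl⟩
    · exact ⟨1, one_mem _, by rw [map_one, hB]⟩
  obtain ⟨u, hu, hue⟩ : ∃ u ∈ Y, prB ω M u = prB ω M (e : Dt ω M) := hXY e.2
  have hpu : ¬ p ∣ orderOf u := by
    intro hd
    obtain ⟨k, hk⟩ := hd
    have hupk : orderOf (u ^ k) = p := by
      have hk0 : k ≠ 0 := fun e => (orderOf_pos u).ne' (by rw [hk, e, mul_zero])
      rw [orderOf_pow_of_dvd hk0 (hk ▸ dvd_mul_left k p), hk, Nat.mul_div_cancel _ (Nat.pos_of_ne_zero hk0)]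
    obtain ⟨v, hv⟩ : ∃ v : Dt ω M, v = u ^ k := ⟨_, rfl⟩
    have hvY : v ∈ Y := hv ▸ pow_mem hu k
    have hN : (v : G5) ∈ Subgroup.normalizer (gR ω : Set G5) := hYN hvY
    have hvp : (v : G5) ^ p = 1 := by
      have e := pow_orderOf_eq_one v
      rw [hv, hupk] at e
      rw [← SubgroupClass.coe_pow, hv, e, OneMemClass.coe_one]
    have h1' : (v : G5) = 1 := eq_one_of_normalizer ω hp2 hp3 hp5 hN (h.det _ (mem_Dt.1 v.2).1) hvp
    have h1 : ((u ^ k : Dt ω M) : G5) = 1 := hv ▸ h1'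
    rw [show u ^ k = 1 from Subtype.ext h1, orderOf_one] at hupk
    exact hp.ne_one hupk.symm
  have heB : prB ω M (e : Dt ω M) = 1 := by
    rw [← orderOf_eq_one_iff, ← Nat.dvd_one, ← Nat.Coprime.gcd_eq_one ((hp.coprime_iff_not_dvd).2 hpu)]
    refine Nat.dvd_gcd ?_ ?_
    · rw [← he, ← Subgroup.orderOf_coe]; exact orderOf_map_dvd _ _
    · rw [← hue]; exact orderOf_map_dvd _ _
  refine not_char_dvd_ker h (p := p) ?_
  rw [← he, ← Subgroup.orderOf_coe]
  exact Subgroup.orderOf_dvd_natCard _ (MonoidHom.mem_ker.2 heB)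

/-- in the centraliser of the phase nothing else fixes the differences -/
theorem UCtx5.eq_one_of_comm (h : UCtx5 ω q M) (y : Dt ω M) (hB : prB ω M y = 1)
    (hcomm : y * tQ h = tQ h * y) : y = 1 := by
  by_contra hy
  obtain ⟨a, b, c, hA, hb, hc, hdet⟩ := diag_of_comm h hB hcomm
  have hswap : (prA ω M (tW h * y * (tW h)⁻¹) : M3) = Matrix.diagonal ![a, c, b] := by
    have e : (((prA ω M (tW h))⁻¹ : GL (Fin 3) F) : M3) = !![-1, 0, 0; 0, 0, -1; 0, -1, 0] := by
      refine left_inv_eq_right_inv (a := (prA ω M (tW h) : M3)) (Units.inv_mul _) ?_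
      rw [prA_tW]
      ext i j; fin_cases i <;> fin_cases j <;> simp [Matrix.mul_apply, Fin.sum_univ_three]
    rw [map_mul, map_mul, map_inv, Units.val_mul, Units.val_mul, e, prA_tW, hA]
    ext i j; fin_cases i <;> fin_cases j <;>
      simp [Matrix.mul_apply, Matrix.vecMul, dotProduct, Fin.sum_univ_three, Matrix.diagonal_apply]
  have hBswap : prB ω M (tW h * y * (tW h)⁻¹) = 1 := by simp [hB]
  rcases mul_self_eq_one_iff.1 hb with rfl | rfl <;> rcases mul_self_eq_one_iff.1 hc with rfl | rfl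
  · refine hy (eq_of_pr (Units.ext ?_) (by rw [hB, map_one]))
    obtain rfl : a = 1 := by simpa using hdet
    rw [hA, map_one, Units.val_one, ← Matrix.diagonal_one]
    congr 1; funext i; fin_cases i <;> simp
  · refine h.no_half_turn (y * (tW h * y * (tW h)⁻¹)) ?_ (by rw [map_mul, hB, hBswap, mul_one])
    obtain rfl : a = -1 := by linear_combination -hdet
    rw [map_mul, Units.val_mul, hA, hswap, Matrix.diagonal_mul_diagonal]
    congr 1; funext i; fin_cases i <;> simp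
  · refine h.no_half_turn (y * (tW h * y * (tW h)⁻¹)) ?_ (by rw [map_mul, hB, hBswap, mul_one])
    obtain rfl : a = -1 := by linear_combination -hdet
    rw [map_mul, Units.val_mul, hA, hswap, Matrix.diagonal_mul_diagonal]
    congr 1; funext i; fin_cases i <;> simp
  · refine h.no_half_turn y ?_ hB
    obtain rfl : a = 1 := by linear_combination hdet
    exact hA

/-- the differences determine the elements of the centraliser of the parity -/
theorem UCtx5.prB_injective (hC : UCtx5 ω q M) : Function.Injective (prB ω M) := by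
  classical
  rw [← MonoidHom.ker_eq_bot_iff]
  by_contra hne
  haveI : Nontrivial (prB ω M).ker := (Subgroup.nontrivial_iff_ne_bot _).2 hne
  let φ : (prB ω M).ker ≃* (prB ω M).ker := MulAut.conjNormal (tQ hC)
  have hit : ∀ (n : ℕ) (g : (prB ω M).ker),
      ((φ^[n] g : (prB ω M).ker) : Dt ω M) = tQ hC ^ n * g * (tQ hC ^ n)⁻¹ := fun n g => by
    induction n with
    | zero => simp
    | succ n ih =>
      rw [Function.iterate_succ_apply', MulAut.conjNormal_apply, ih, pow_succ', _root_.mul_inv_rev]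
      simp only [mul_assoc]
  haveI : Group.IsNilpotent (prB ω M).ker := by
    refine CfsgLib.PGroup.isNilpotent_of_fixedPointFree Nat.prime_five _ φ (fun g hg => ?_) fun g => ?_
    · refine Subtype.ext (hC.eq_one_of_comm _ g.2 ?_)
      have e : tQ hC * (g : Dt ω M) * (tQ hC)⁻¹ = g := congrArg Subtype.val hg
      exact (mul_inv_eq_iff_eq_mul.1 e).symm
    · refine Subtype.ext ?_
      rw [hit, tQ_pow_five hC, inv_one, one_mul, mul_one]
  obtain ⟨⟨z, hz⟩, hzne⟩ := Subgroup.ne_bot_iff_exists_ne_one.1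
    (Group.IsNilpotent.center_ne_bot (G := (prB ω M).ker))
  have hz1 : z ≠ 1 := fun e => hzne (Subtype.ext e)
  obtain ⟨S, hS⟩ : ∃ S : Set M3, S = {m | ∃ y : Dt ω M, prB ω M y = 1 ∧
      (∀ k : Dt ω M, prB ω M k = 1 → k * y = y * k) ∧ m = (prA ω M y : M3)} := ⟨_, rfl⟩
  have hSc : ∀ g : Dt ω M, ∀ m ∈ S, (prA ω M g : M3) * m *
      (((prA ω M g)⁻¹ : GL (Fin 3) F) : M3) ∈ S := by
    subst hS
    rintro g _ ⟨y, hy, hyc, rfl⟩
    refine ⟨g * y * g⁻¹, by simp [hy], fun k hk => ?_, by simp⟩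
    have h := hyc (g⁻¹ * k * g) (by simp [hk])
    calc k * (g * y * g⁻¹) = g * ((g⁻¹ * k * g) * y) * g⁻¹ := by group
      _ = g * (y * (g⁻¹ * k * g)) * g⁻¹ := by rw [h]
      _ = _ := by group
  have hinv : ∀ A A' : M3, (∀ m ∈ S, A * m * A' ∈ S) → ∀ x ∈ Submodule.span F S,
      A * x * A' ∈ Submodule.span F S := by
    intro A A' h x hx
    induction hx using Submodule.span_induction with
    | mem m hm => exact Submodule.subset_span (h m hm)
    | zero => simp
    | add a b _ _ ha hb => rw [mul_add, add_mul]; exact add_mem ha hb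
    | smul c a _ ha => rw [Matrix.mul_smul, Matrix.smul_mul]; exact Submodule.smul_mem _ c ha
  have hcS : ∀ x ∈ S, ∀ y ∈ S, x * y = y * x := by
    subst hS
    rintro _ ⟨x, hx, -, rfl⟩ _ ⟨y, -, hyc, rfl⟩
    rw [← Units.val_mul, ← Units.val_mul, ← map_mul, ← map_mul, hyc x hx]
  have hc : ∀ x ∈ Submodule.span F S, ∀ y ∈ Submodule.span F S, x * y = y * x := by
    have h1 : ∀ x ∈ S, ∀ y ∈ Submodule.span F S, x * y = y * x := by
      intro x hx y hy
      induction hy using Submodule.span_induction with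
      | mem m hm => exact hcS x hx m hm
      | zero => simp
      | add a b _ _ ha hb => rw [mul_add, add_mul, ha, hb]
      | smul c a _ ha => rw [Matrix.mul_smul, Matrix.smul_mul, ha]
    intro x hx y hy
    induction hx using Submodule.span_induction with
    | mem m hm => exact h1 m hm y hy
    | zero => simp
    | add a b _ _ ha hb => rw [mul_add, add_mul, ha, hb]
    | smul c a _ ha => rw [Matrix.mul_smul, Matrix.smul_mul, ha]
  have hsc := scalar_of_invariant ω (Submodule.span F S) hc (fun x hx => ?_) (fun x hx => ?_) (fun x hx => ?_)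
    (prA ω M z : M3) (Submodule.subset_span (hS ▸ ⟨_, z.2, fun k hk =>
      congrArg Subtype.val (Subgroup.mem_center_iff.1 hz ⟨k, hk⟩), rfl⟩))
  · refine hz1 (Subtype.ext (hC.eq_one_of_comm _ z.2 (eq_of_pr ?_ ?_)))
    · rw [map_mul, map_mul]
      refine Units.ext ?_
      rw [Units.val_mul, Units.val_mul, hsc, Matrix.smul_mul, Matrix.mul_smul, one_mul, mul_one]
    · rw [map_mul, map_mul, show prB ω M (z : Dt ω M) = 1 from z.2, one_mul, mul_one]
  · refine hinv _ _ (fun m hm => ?_) x hx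
    have h := hSc (tQ hC) m hm
    rwa [prA_tQ, show (((prA ω M (tQ hC))⁻¹ : GL (Fin 3) F) : M3) =
        Matrix.diagonal ![1, ω.μ ^ 4, ω.μ] from left_inv_eq_right_inv (Units.inv_mul _) (by
      rw [prA_tQ, Matrix.diagonal_mul_diagonal, ← Matrix.diagonal_one]
      congr 1; funext i; fin_cases i <;> simp <;> linear_combination ω.pow5)] at h
  · refine hinv _ _ (fun m hm => ?_) x hx
    have h := hSc (tW hC) m hm
    rwa [prA_tW, show (((prA ω M (tW hC))⁻¹ : GL (Fin 3) F) : M3) =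
        !![-1, 0, 0; 0, 0, -1; 0, -1, 0] from left_inv_eq_right_inv (Units.inv_mul _) (by
      rw [prA_tW]
      ext i j; fin_cases i <;> fin_cases j <;> simp [Matrix.mul_apply, Matrix.vecMul, dotProduct, Fin.sum_univ_three])] at h
  · have h := hinv _ _ (fun m hm => hSc (tP hC) m hm) x hx
    rw [prA_tP_inv, prA_tP, Matrix.smul_mul, Matrix.smul_mul, Matrix.mul_smul, smul_smul] at h
    have hne : -ω.η⁻¹ * -ω.η⁻¹ ≠ 0 := by simp [ω.η_ne_zero]
    have h' := Submodule.smul_mem _ (-ω.η⁻¹ * -ω.η⁻¹)⁻¹ h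
    rwa [smul_smul, inv_mul_cancel₀ hne, one_smul] at h'

end CfsgLib.Perm.Trans.UnitFive.Pauli
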