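import Cfsg.Agent.Lib.Perm.Trans.FiveDim.Pauli.Reflection
import Cfsg.Agent.Lib.SU.Field
import Cfsg.Agent.Lib.Perm.Trans.UnitSU
import Cfsg.Prelude.Def_GeometricClasses

/-!
# The frame group of order 125 in five-dimensional unitary groups: shared definitions

`Big G` says that a group of two by two matrices contains the special unitary group up to scalars.
-/

set_option autoImplicit false
set_option linter.all false

namespace CfsgLib.Perm.Trans.UnitFive.Pauli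

open scoped Matrix
open Matrix CfsgLib.Perm.Trans.FiveDim.Pauli

variable {F : Type*} [Field F] [Fintype F] {q : ℕ}

local notation "M2" => Matrix (Fin 2) (Fin 2) F
local notation "M5" => Matrix (Fin 5) (Fin 5) F
local notation "G5" => GL (Fin 5) F

/-- the special unitary group in dimension five -/
def suG (F : Type*) [Field F] (q : ℕ) : Subgroup (GL (Fin 5) F) := Cfsg.GU 5 F q ⊓ Cfsg.Geo.specialLinear (Fin 5) F

/-- the arithmetic hypothesis of the clause -/
def QCase (F : Type*) [Field F] [Fintype F] (q : ℕ) : Prop :=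
  Fintype.card F = q ^ 2 ∧ ∃ p : ℕ, p.Prime ∧ CharP F p ∧ ((q = p ∧ p % 5 = 4) ∨ (q = p ^ 2 ∧ (p % 5 = 2 ∨ p % 5 = 3)))

theorem QCase.mod (h : QCase F q) : q % 5 = 4 := by
  obtain ⟨-, p, -, -, (⟨rfl, hp⟩ | ⟨rfl, hp⟩)⟩ := h
  · exact hp
  · rw [Nat.pow_mod]
    rcases hp with e | e <;> rw [e]

theorem QCase.four_le (h : QCase F q) : 4 ≤ q := by
  have := h.mod
  omega

/-- fifth roots of unity have norm one -/
theorem QCase.pow_five_bar (h : QCase F q) (C : CfsgLib.SU.UCtx F q) {x : F} (hx : x ^ 5 = 1) :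
    C.bar x = x ^ 4 := by
  rw [C.bar_eq, pow_eq_pow_mod q hx, h.mod]

/-- containing the special unitary group up to scalars -/
def Big (F : Type*) [Field F] (q : ℕ) (G : Subgroup (GL (Fin 2) F)) : Prop :=
  ∀ s : GL (Fin 2) F, s ∈ Cfsg.GU 2 F q → (s : Matrix (Fin 2) (Fin 2) F).det = 1 →
    ∃ g ∈ G, ∃ c : F, (g : Matrix (Fin 2) (Fin 2) F) = c • (s : Matrix (Fin 2) (Fin 2) F)

/-- a monomial matrix -/
def Mono (g : M2) : Prop := (g 0 1 = 0 ∧ g 1 0 = 0) ∨ (g 0 0 = 0 ∧ g 1 1 = 0)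

/-- overgroups of the normaliser of the frame, odd characteristic -/
structure UCtx5 (ω : Root F) (q : ℕ) (M : Subgroup G5) : Prop where
  qcase : QCase F q
  le : M ≤ suG F q
  ne : M ≠ suG F q
  memD : gD ω ∈ M
  memS : gS ω ∈ M
  memQ : gQ ω ∈ M
  memW : gW ω ∈ M
  memP : gP ω ∈ M

variable {ω : Root F} {M : Subgroup (GL (Fin 5) F)}

theorem UCtx5.memT (h : UCtx5 ω q M) : gT ω ∈ M := gW_sq ω ▸ mul_mem h.memW h.memW

theorem UCtx5.det (h : UCtx5 ω q M) : ∀ g ∈ M, (g : M5).det = 1 := fun g hg => by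
  have h1 : Matrix.GeneralLinearGroup.det g = 1 := (h.le hg).2
  rw [← Matrix.GeneralLinearGroup.val_det_apply, h1, Units.val_one]

/-- `Q` in the centraliser of the phase -/
def cQ (h : UCtx5 ω q M) : Cq ω M := ⟨gQ ω, mem_Cq.2 ⟨h.memQ, rfl⟩⟩

/-- `D` in the centraliser of the phase -/
def cD (h : UCtx5 ω q M) : Cq ω M := ⟨gD ω, mem_Cq.2 ⟨h.memD, Units.ext (by
  rw [Units.val_mul, Units.val_mul, val_gD, val_gQ, qd_comm_dm])⟩⟩

/-- `T` in the centraliser of the phase -/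
def cT (h : UCtx5 ω q M) : Cq ω M := ⟨gT ω, mem_Cq.2 ⟨h.memT, Units.ext (by
  rw [Units.val_mul, Units.val_mul, val_gT, val_gQ, comm_of_sym (sym_qd _)])⟩⟩

theorem pr1_cD (h : UCtx5 ω q M) :
    (pr1 ω M (cD h) : M2) = Matrix.diagonal ![ω.μ, ω.μ ^ 4] := by
  rw [val_pr1]
  ext i j
  fin_cases i <;> fin_cases j <;> simp [p1, cD, val_gD, dm]

theorem pr2_cD (h : UCtx5 ω q M) :
    (pr2 ω M (cD h) : M2) = Matrix.diagonal ![ω.μ ^ 2, ω.μ ^ 3] := by
  rw [val_pr2]
  ext i j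
  fin_cases i <;> fin_cases j <;> simp [p2, cD, val_gD, dm]

theorem pr1_cT (h : UCtx5 ω q M) : (pr1 ω M (cT h) : M2) = !![0, 1; 1, 0] := by
  rw [val_pr1]
  ext i j
  fin_cases i <;> fin_cases j <;> simp [p1, cT, val_gT, tm]

theorem pr2_cT (h : UCtx5 ω q M) : (pr2 ω M (cT h) : M2) = !![0, 1; 1, 0] := by
  rw [val_pr2]
  ext i j
  fin_cases i <;> fin_cases j <;> simp [p2, cT, val_gT, tm]

/-- `Q` in the centraliser of the parity -/
def tQ (h : UCtx5 ω q M) : Dt ω M := ⟨gQ ω, mem_Dt_of_sym h.memQ (by rw [val_gQ]; exact sym_qd _)⟩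

/-- `W` in the centraliser of the parity -/
def tW (h : UCtx5 ω q M) : Dt ω M := ⟨gW ω, mem_Dt_of_sym h.memW (by rw [val_gW]; exact sym_wm)⟩

/-- `P` in the centraliser of the parity -/
def tP (h : UCtx5 ω q M) : Dt ω M := ⟨gP ω, mem_Dt_of_sym h.memP (by rw [val_gP]; exact sym_fm ω)⟩

theorem unit_entry (C : CfsgLib.SU.UCtx F q) {g : GL (Fin 5) F} (hg : g ∈ Cfsg.GU 5 F q) (i j : Fin 5) :
    ∑ k, (g : M5) k i * C.bar ((g : M5) k j) = (1 : M5) i j := by
  have h := congrFun (congrFun (C.mem_gu_iff_mat.1 hg) i) j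
  rw [Matrix.mul_apply] at h
  simpa [Matrix.transpose_apply, Matrix.map_apply] using h

theorem pr1_mem (h : UCtx5 ω q M) (g : Cq ω M) : pr1 ω M g ∈ Cfsg.GU 2 F q := by
  obtain ⟨C⟩ := CfsgLib.Perm.Trans.Unit.ctx_of_card h.qcase.1
  obtain ⟨a1, a2, a3, a4, a5, a6, a7, a8, a9, b1, b2, b3, b4, b5, b6, b7⟩ := blocked_Cq g
  have hE := unit_entry C (g := (g : G5)) (h.le (mem_Cq.1 g.2).1).1
  refine C.mem_gu_iff_mat.2 ?_
  ext i j
  rw [val_pr1, Matrix.mul_apply, Fin.sum_univ_two]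
  have e11 := hE 1 1
  have e14 := hE 1 4
  have e41 := hE 4 1
  have e44 := hE 4 4
  simp [Fin.sum_univ_five, a1, a4, a5, a8, a9, b1, b2, b3, b4, b5, b6, b7] at e11 e14 e41 e44
  fin_cases i <;> fin_cases j <;> simp [p1]
  · exact e11
  · exact e14
  · exact e41
  · exact e44

theorem prB_mem (h : UCtx5 ω q M) (g : Dt ω M) : prB ω M g ∈ Cfsg.GU 2 F q := by
  obtain ⟨C⟩ := CfsgLib.Perm.Trans.Unit.ctx_of_card h.qcase.1
  obtain ⟨a, b, c, d, e, f, k, l, m, n, o, r⟩ := (sym_Dt g).vals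
  have hE := unit_entry C (g := (g : G5)) (h.le (mem_Dt.1 g.2).1).1
  have e11 := hE 1 1
  have e14 := hE 1 4
  have e12 := hE 1 2
  have e13 := hE 1 3
  have e21 := hE 2 1
  have e24 := hE 2 4
  have e22 := hE 2 2
  have e23 := hE 2 3
  simp [Fin.sum_univ_five, a, b, c, d, e, f, k, l, m, n, o, r] at e11 e14 e12 e13 e21 e24 e22 e23
  refine C.mem_gu_iff_mat.2 ?_
  ext i j
  rw [val_prB, Matrix.mul_apply, Fin.sum_univ_two]
  fin_cases i <;> fin_cases j <;> simp [Bm, map_sub]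
  · linear_combination e11 - e14
  · linear_combination e12 - e13
  · linear_combination e21 - e24
  · linear_combination e22 - e23

theorem single_mem_of_invariant (ω : Root F) (W : Submodule F (Fin 5 → F))
    (hD : ∀ w ∈ W, (gD ω : M5) *ᵥ w ∈ W) {w : Fin 5 → F} (hw : w ∈ W) (i : Fin 5) :
    (5 * w i) • (Pi.single i 1 : Fin 5 → F) ∈ W := by
  have hk : ∀ k : ℕ, (fun j : Fin 5 => (ω.μ ^ (j : ℕ)) ^ k * w j) ∈ W := fun k => by
    induction k with
    | zero => simpa using hw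
    | succ k ih =>
      convert hD _ ih using 1
      funext j
      rw [val_gD, dm, Matrix.mulVec_diagonal]
      fin_cases j <;> simp [pow_succ] <;> ring
  have h := W.sum_mem (t := Finset.range 5) fun k _ => W.smul_mem (ω.μ ^ ((5 - (i : ℕ)) * k)) (hk k)
  convert h using 1
  funext j
  simp only [Finset.sum_apply, Pi.smul_apply, smul_eq_mul]
  rw [show (∑ k ∈ Finset.range 5, ω.μ ^ ((5 - (i : ℕ)) * k) * ((ω.μ ^ (j : ℕ)) ^ k * w j)) =
      (∑ k ∈ Finset.range 5, (ω.μ ^ (5 - (i : ℕ) + (j : ℕ))) ^ k) * w j by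
    rw [Finset.sum_mul]
    refine Finset.sum_congr rfl fun k _ => ?_
    rw [← pow_mul, ← mul_assoc, ← pow_add, ← pow_mul, add_mul]]
  rcases eq_or_ne j i with rfl | hne
  · rw [Nat.sub_add_cancel (Nat.le_of_lt j.isLt), ω.pow5]
    simp
  · have h1 : ω.μ ^ (5 - (i : ℕ) + (j : ℕ)) ≠ 1 := ω.pow_ne_one (by
      have := i.isLt; have := j.isLt; have := Fin.val_ne_of_ne hne; omega)
    rw [geom_sum_eq h1, ← pow_mul, mul_comm _ 5, pow_mul, ω.pow5, one_pow, sub_self, zero_div, zero_mul]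
    simp [hne]

/-- the frame acts irreducibly -/
theorem irreducible_of_frame (ω : Root F) (W : Submodule F (Fin 5 → F))
    (hD : ∀ w ∈ W, (gD ω : M5) *ᵥ w ∈ W) (hS : ∀ w ∈ W, (gS ω : M5) *ᵥ w ∈ W) : W = ⊥ ∨ W = ⊤ := by
  by_cases h0 : W = ⊥
  · exact Or.inl h0
  obtain ⟨w, hw, hw0⟩ := Submodule.exists_mem_ne_zero_of_ne_bot h0
  obtain ⟨i, hi⟩ := Function.ne_iff.1 hw0
  have hs : ∀ j : Fin 5, Pi.single j (1 : F) ∈ W → Pi.single (j + 1) (1 : F) ∈ W := fun j hj => by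
    convert hS _ hj using 1
    rw [val_gS, Matrix.mulVec_single_one]
    funext k
    fin_cases j <;> fin_cases k <;> simp [sm, Matrix.col]
  have h1 : Pi.single i (1 : F) ∈ W :=
    (Submodule.smul_mem_iff _ (mul_ne_zero ω.five hi)).1 (single_mem_of_invariant ω W hD hw i)
  have hall : ∀ d : Fin 5, Pi.single (i + d) (1 : F) ∈ W := by
    have e1 := hs _ h1
    have e2 := hs _ e1
    have e3 := hs _ e2
    have e4 := hs _ e3
    intro d
    fin_cases d
    · simpa using h1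
    · exact e1
    · simpa [add_assoc] using e2
    · simpa [add_assoc] using e3
    · simpa [add_assoc] using e4
  refine Or.inr (eq_top_iff.2 fun v _ => ?_)
  rw [pi_eq_sum_univ v]
  refine W.sum_mem fun j _ => W.smul_mem _ ?_
  have h := hall (j - i)
  rw [add_sub_cancel] at h
  convert h using 1
  funext k
  simp [Pi.single_apply, eq_comm]

end CfsgLib.Perm.Trans.UnitFive.Pauli
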