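import Cfsg.Agent.Lib.Perm.Trans.UnitFive.Pauli.Ctx
import Cfsg.Agent.Lib.Perm.Trans.FiveDim.Pauli.Data

/-!
# The frame of a group of order 125 of unitary similarities in dimension five

The basis in which the group is generated by `D` and `S` can be taken orthonormal.
-/

set_option autoImplicit false
set_option linter.all false

namespace CfsgLib.Perm.Trans.UnitFive.Pauli

open scoped Matrix
open Matrix Cfsg Cfsg.Geo CfsgLib.Perm.Asch CfsgLib.Perm.Trans CfsgLib.Perm.Trans.FiveDim.Pauli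

variable {F : Type*} [Field F] [Fintype F] {q : ℕ}

local notation "M5" => Matrix (Fin 5) (Fin 5) F
local notation "G5" => GL (Fin 5) F

/-- similarities of order five are isometries -/
theorem le_GU_of_exponent (hq : QCase F q) {R : Subgroup G5} (hR : R ≤ similarityGroup (hermForm 5 F q))
    (h5 : ∀ g ∈ R, g ^ 5 = 1) : R ≤ Cfsg.GU 5 F q := by
  obtain ⟨C⟩ := Unit.ctx_of_card hq.1
  have hf : IsUnitaryForm C.bar (hermForm 5 F q) := Unit.isUnitary_hermForm C
  intro g hg
  obtain ⟨c, hc⟩ := hR hg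
  obtain ⟨v, hv⟩ : ∃ v : Fin 5 → F, hermForm 5 F q v v ≠ 0 :=
    ⟨Pi.single 0 1, by simp [hermForm, Fin.sum_univ_five, zero_pow C.q_ne_zero]⟩
  have hcb : C.bar (c : F) = c := by
    have h1 : C.bar (hermForm 5 F q v v) = hermForm 5 F q v v := (hf.herm v v).symm
    have h2 := hf.herm ((g : M5) *ᵥ v) ((g : M5) *ᵥ v)
    rw [hc, map_mul, h1] at h2
    exact (mul_right_cancel₀ hv h2).symm
  have hc5 : (c : F) ^ 5 = 1 := by
    have hiter : ∀ n : ℕ, hermForm 5 F q (((g ^ n : G5) : M5) *ᵥ v) (((g ^ n : G5) : M5) *ᵥ v) =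
        (c : F) ^ n * hermForm 5 F q v v := fun n => by
      induction n with
      | zero => simp
      | succ n ih =>
        rw [pow_succ', Units.val_mul, ← Matrix.mulVec_mulVec, hc, ih, pow_succ', mul_assoc]
    have h := hiter 5
    rw [h5 g hg, Units.val_one, Matrix.one_mulVec] at h
    exact mul_right_cancel₀ hv (h.symm.trans (one_mul _).symm)
  have hc1 : (c : F) = 1 := by
    have h3 : (c : F) ^ 3 = 1 := by
      refine mul_left_cancel₀ c.ne_zero ?_
      rw [mul_one, ← pow_succ', ← hq.pow_five_bar C hc5, hcb]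
    linear_combination -(c : F) * hc5 + ((c : F) ^ 3 + 1) * h3
  intro u w
  show hermForm 5 F q ((g : M5) *ᵥ u) ((g : M5) *ᵥ w) = _
  rw [hc, hc1, one_mul]

/-- the frame can be taken orthonormal -/
theorem exists_frame (hq : QCase F q) {R : Subgroup G5} (hsymp : IsSymplecticTypeGroup 5 R)
    (habs : ActsAbsolutelyIrreducibly (matrixSet R)) (hsim : R ≤ similarityGroup (hermForm 5 F q))
    (h125 : Nat.card R = 125) (hZ : Nat.card (Subgroup.center R) = 5) :
    ∃ μ : F, μ ^ 5 = 1 ∧ μ ≠ 1 ∧ ∃ Pc ∈ Cfsg.GU 5 F q, ∃ D S : G5, (D : M5) = dm μ ∧ (S : M5) = sm ∧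
      R = (Subgroup.closure {D, S}).map (MulAut.conj Pc).toMonoidHom := by
  classical
  obtain ⟨-, hexp, a, ha, b, hb, c, hc5, hc1, hab⟩ := FiveDim.Pauli.exists_pair hsymp habs hZ
    ⟨1, le_rfl, by rw [h125]; norm_num⟩
  obtain ⟨B, D, S, hD, hS, haB, hbB, hR⟩ := exists_conj_frame h125 hexp ha hb hc5 hc1 hab
  have hRU := le_GU_of_exponent hq hsim hexp
  obtain ⟨C⟩ := Unit.ctx_of_card hq.1
  have hf : IsUnitaryForm C.bar (hermForm 5 F q) := Unit.isUnitary_hermForm C
  obtain ⟨e, he⟩ : ∃ e : Fin 5 → Fin 5 → F, e = fun i j => (B : M5) j i := ⟨_, rfl⟩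
  have hBe : ∀ x : Fin 5 → F, (B : M5) *ᵥ x = ∑ i, x i • e i := fun x => by
    funext j
    simp [he, mulVec, dotProduct, Finset.sum_apply, mul_comm]
  have hea : ∀ i, (a : M5) *ᵥ e i = c ^ (i : ℕ) • e i := fun i => by
    funext j
    have h0 : ((a * B : G5) : M5) = ((B * D : G5) : M5) := by rw [haB]
    have h := congrFun (congrFun h0 j) i
    rw [Units.val_mul, Units.val_mul, hD, dm, Matrix.mul_diagonal, Matrix.mul_apply] at h
    simp only [he, mulVec, dotProduct, Pi.smul_apply, smul_eq_mul]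
    rw [h]
    fin_cases i <;> simp <;> ring
  have heb : ∀ i, (b : M5) *ᵥ e i = e (i + 1) := fun i => by
    funext j
    have h0 : ((b * B : G5) : M5) = ((B * S : G5) : M5) := by rw [hbB]
    have h := congrFun (congrFun h0 j) i
    rw [Units.val_mul, Units.val_mul, hS, Matrix.mul_apply, Matrix.mul_apply] at h
    simp only [he, mulVec, dotProduct]
    rw [h]
    fin_cases i <;> simp [sm, Fin.sum_univ_five]
  obtain ⟨M, hM⟩ : ∃ M, M = fun i j => hermForm 5 F q (e i) (e j) := ⟨_, rfl⟩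
  have hμ : IsPrimitiveRoot c 5 := by
    haveI : Fact (Nat.Prime 5) := ⟨by norm_num⟩
    have h := IsPrimitiveRoot.orderOf c
    rwa [orderOf_eq_prime hc5 hc1] at h
  have hoff : ∀ i j, i ≠ j → M i j = 0 := fun i j hij => by
    have h : hermForm 5 F q ((a : M5) *ᵥ e i) ((a : M5) *ᵥ e j) = hermForm 5 F q (e i) (e j) := hRU ha _ _
    rw [hea, hea, hf.smul_left, herm_smul_right hf, map_pow, hq.pow_five_bar C hc5, ← pow_mul, ← mul_assoc,
      ← pow_add] at h
    have hne : c ^ ((i : ℕ) + 4 * (j : ℕ)) ≠ 1 := fun h1 => by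
      have h5 := hμ.dvd_of_pow_eq_one _ h1
      have := i.isLt; have := j.isLt; have := Fin.val_ne_of_ne hij
      omega
    rw [hM]
    exact (mul_left_eq_self₀.1 h).resolve_left hne
  have hdiag : ∀ i, M i i = M 0 0 := by
    have h : ∀ i, M (i + 1) (i + 1) = M i i := fun i => by
      rw [hM]
      show hermForm 5 F q (e (i + 1)) (e (i + 1)) = hermForm 5 F q (e i) (e i)
      rw [← heb]
      exact hRU hb _ _
    intro i
    have e1 := h 0
    have e2 := (h 1).trans e1
    have e3 := (h 2).trans e2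
    have e4 := (h 3).trans e3
    fin_cases i
    · rfl
    · exact e1
    · exact e2
    · exact e3
    · exact e4
  have hgram : ∀ x y : Fin 5 → F,
      hermForm 5 F q ((B : M5) *ᵥ x) ((B : M5) *ᵥ y) = M 0 0 * hermForm 5 F q x y := fun x y => by
    have h01 := hoff; have hd := hdiag
    simp only [hM] at h01 hd ⊢
    simp only [hBe, Fin.sum_univ_five, hf.add_left, herm_add_right hf, hf.smul_left, herm_smul_right hf]
    simp (disch := decide) only [h01, hd, mul_zero, add_zero, zero_add]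
    simp only [hermForm, Fin.sum_univ_five, ← C.bar_eq]
    ring
  have hM0 : M 0 0 ≠ 0 := fun h0 => by
    obtain ⟨w, hw⟩ := (hf.nondegenerate (Pi.single 0 1) (by simp)).1
    have h1 := hgram (((B⁻¹ : G5) : M5) *ᵥ Pi.single 0 1) (((B⁻¹ : G5) : M5) *ᵥ w)
    rw [h0, zero_mul, mulVec_mulVec, mulVec_mulVec, Units.mul_inv, one_mulVec, one_mulVec] at h1
    exact hw (herm_swap_zero hf h1)
  obtain ⟨l, hl⟩ := C.exists_norm (c := (M 0 0)⁻¹) (by
    rw [map_inv₀, hM]; exact congrArg Inv.inv (hf.herm _ _).symm)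
  have hl0 : l ≠ 0 := fun h => by rw [h, zero_mul] at hl; exact inv_ne_zero hM0 hl.symm
  obtain ⟨z, hz⟩ : ∃ z : G5, (z : M5) = l • 1 :=
    ⟨Matrix.GeneralLinearGroup.mkOfDetNeZero (l • 1) (by simp [hl0]), rfl⟩
  have hzc : ∀ g : G5, z * g = g * z := fun g => Units.ext (by
    rw [Units.val_mul, Units.val_mul, hz, Matrix.smul_mul, one_mul, Matrix.mul_smul, mul_one])
  refine ⟨c, hc5, hc1, B * z, fun x y => ?_, D, S, hD, hS, ?_⟩
  · show hermForm 5 F q (((B * z : G5) : M5) *ᵥ x) (((B * z : G5) : M5) *ᵥ y) = _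
    rw [Units.val_mul, hz, Matrix.mul_smul, mul_one, smul_mulVec, smul_mulVec, hf.smul_left,
      herm_smul_right hf, hgram, ← mul_assoc, ← mul_assoc, hl, inv_mul_cancel₀ hM0, one_mul]
  · rw [hR]
    congr 1
    refine MonoidHom.ext fun g => ?_
    show B * g * B⁻¹ = B * z * g * (B * z)⁻¹
    rw [mul_assoc B z g, hzc g]
    group

end CfsgLib.Perm.Trans.UnitFive.Pauli
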