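import Cfsg.Agent.Lib.Perm.Trans.UnitFive.Pauli.Ctx
import Cfsg.Agent.Lib.Perm.Dickson.Finite
import Cfsg.Agent.Lib.Perm.Dickson.Bridge
import Cfsg.Agent.Lib.Perm.Dickson.Minimal
import Cfsg.Agent.Lib.Classical.SUTwoSL

/-!
# Small subgroups of the two dimensional unitary group containing a monomial dihedral group of order ten

A subgroup not containing the special unitary group up to scalars is monomial or, in odd characteristic, icosahedral
modulo scalars (Dickson's list, transported by a frame of isotropic vectors).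
-/

set_option autoImplicit false
set_option linter.all false

namespace CfsgLib.Perm.Trans.UnitFive.Pauli

open scoped Matrix
open Matrix CfsgLib.Perm.Dickson

variable {F : Type*} [Field F] [Fintype F] {q : ℕ}

local notation "M2" => Matrix (Fin 2) (Fin 2) F
local notation "L2" => GL (Fin 2) F

/-- conjugate and forget scalars -/
def prj (Ps : GL (Fin 2) F) : GL (Fin 2) F →* G2 F :=
  (Matrix.ProjGenLinGroup.mk).comp (MulAut.conj Ps⁻¹).toMonoidHom

theorem prj_apply (Ps g : L2) : prj Ps g = Matrix.ProjGenLinGroup.mk (Ps⁻¹ * g * Ps) := by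
  simp [prj]

theorem smul_of_prj_eq {Ps g h : L2} (e : prj Ps g = prj Ps h) : ∃ c : F, c ≠ 0 ∧ (g : M2) = c • (h : M2) := by
  rw [prj_apply, prj_apply] at e
  obtain ⟨c, hc, hce⟩ := exists_smul_of_mk_eq e
  refine ⟨c⁻¹, inv_ne_zero hc, ?_⟩
  have h1 : c • (g : M2) = (h : M2) := by
    have e1 := congrArg (fun A : M2 => (Ps : M2) * A * ((Ps⁻¹ : L2) : M2)) hce
    simp only [mul_smul_comm, smul_mul_assoc, Units.val_mul] at e1
    simp only [mul_assoc, Units.mul_inv, mul_one, ← mul_assoc (Ps : M2) ((Ps⁻¹ : L2) : M2), one_mul] at e1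
    exact e1
  rw [← h1, smul_smul, inv_mul_cancel₀ hc, one_smul]

theorem scalar_of_prj_one {Ps g : L2} (e : prj Ps g = 1) : ∃ c : F, (g : M2) = c • (1 : M2) := by
  obtain ⟨c, -, hc⟩ := smul_of_prj_eq (h := 1) (e.trans (map_one _).symm)
  exact ⟨c, by rwa [Units.val_one] at hc⟩

theorem prj_eq_one_of_scalar (Ps g : L2) (c : F) (h : (g : M2) = c • (1 : M2)) : prj Ps g = 1 := by
  rw [prj_apply]
  refine mk_eq_one_of_scalar _ c ?_
  rw [Units.val_mul, Units.val_mul, h, mul_smul_comm, mul_one, smul_mul_assoc, Units.inv_mul]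

/-- a frame in which the unitary group is defined over the subfield of order `q` -/
theorem exists_real_frame (hq : QCase F q) : ∃ (K : Subfield F) (Ps : L2), Nat.card K = q ∧
    (∀ g ∈ Cfsg.GU 2 F q, ∃ x, mapG K.subtype x = prj Ps g) ∧
    (∀ g ∈ Cfsg.GU 2 F q, (g : M2).det = 1 → ∃ x ∈ psl K, mapG K.subtype x = prj Ps g) ∧
    (∀ x ∈ psl K, ∃ s ∈ Cfsg.GU 2 F q, (s : M2).det = 1 ∧ mapG K.subtype x = prj Ps s) := by
  obtain ⟨C⟩ := CfsgLib.Perm.Trans.Unit.ctx_of_card hq.1
  obtain ⟨P, d, hd0, hP, hH⟩ := CfsgLib.Classical.SUTwoSL.exists_frame C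
  obtain ⟨K, hKdef⟩ : ∃ K, K = CfsgLib.Descent.fixedField C.bar := ⟨_, rfl⟩
  have hK : Nat.card K = q := by
    subst hKdef
    have h := CfsgLib.Descent.card_fixedField_pow C.bar
    rw [C.order_two, hq.1] at h
    exact Nat.pow_left_injective two_ne_zero h
  have hmem : ∀ x : F, x ∈ K ↔ C.bar x = x := fun x => by rw [hKdef]; exact Iff.rfl
  obtain ⟨Ps, hPs⟩ : ∃ Ps : L2, (Ps : M2) = P := ⟨Matrix.GeneralLinearGroup.mkOfDetNeZero P hP, rfl⟩
  obtain ⟨H, hHdef⟩ : ∃ H : M2, H = !![0, d; -d, 0] := ⟨_, rfl⟩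
  rw [← hHdef, ← hPs] at hH
  have hJ : ∀ A : M2, Aᵀ * H * A = A.det • H := fun A => by
    subst hHdef
    ext i j
    fin_cases i <;> fin_cases j <;> simp [Matrix.mul_apply, Fin.sum_univ_two, Matrix.det_fin_two] <;> ring
  have hHd : H.det ≠ 0 := by subst hHdef; simp [Matrix.det_fin_two, hd0]
  -- unitary in the new coordinates
  have key : ∀ B : L2, Ps * B * Ps⁻¹ ∈ Cfsg.GU 2 F q ↔ (B : M2).det • (B : M2).map C.bar = (B : M2) := by
    intro B
    rw [C.mem_gu_iff_mat]
    have hd' : (B : M2).det ≠ 0 := Matrix.GeneralLinearGroup.det_ne_zero B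
    have h1 : ((Ps * B * Ps⁻¹ : L2) : M2)ᵀ * ((Ps * B * Ps⁻¹ : L2) : M2).map C.bar =
        ((Ps⁻¹ : L2) : M2)ᵀ * ((B : M2)ᵀ * H * (B : M2).map C.bar) * ((Ps⁻¹ : L2) : M2).map C.bar := by
      rw [← hH, Units.val_mul, Units.val_mul]
      simp only [Matrix.transpose_mul, Matrix.map_mul, Matrix.mul_assoc]
    have h2 : ((Ps⁻¹ : L2) : M2)ᵀ * H * ((Ps⁻¹ : L2) : M2).map C.bar = 1 := by
      calc ((Ps⁻¹ : L2) : M2)ᵀ * H * ((Ps⁻¹ : L2) : M2).map C.bar
          = ((Ps : M2) * ((Ps⁻¹ : L2) : M2))ᵀ * ((Ps : M2) * ((Ps⁻¹ : L2) : M2)).map C.bar := by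
            rw [← hH]; simp only [Matrix.transpose_mul, Matrix.map_mul, Matrix.mul_assoc]
        _ = 1 := by rw [Units.mul_inv, Matrix.transpose_one, Matrix.map_one _ (map_zero _) (map_one _), mul_one]
    have hu1 : IsUnit ((Ps⁻¹ : L2) : M2)ᵀ :=
      (Matrix.isUnit_iff_isUnit_det _).2 (by rw [Matrix.det_transpose]; exact (Matrix.isUnit_iff_isUnit_det _).1 (Ps⁻¹).isUnit)
    have hu2 : IsUnit (((Ps⁻¹ : L2) : M2).map C.bar) := by
      simpa [RingHom.mapMatrix_apply] using (Ps⁻¹).isUnit.map (C.bar.toRingHom.mapMatrix (m := Fin 2))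
    rw [h1]
    conv_lhs => rw [← h2]
    rw [show ((Ps⁻¹ : L2) : M2)ᵀ * H * ((Ps⁻¹ : L2) : M2).map C.bar =
      ((Ps⁻¹ : L2) : M2)ᵀ * (H : M2) * ((Ps⁻¹ : L2) : M2).map C.bar from rfl, hu2.mul_left_inj, hu1.mul_right_inj]
    have hAH : IsUnit ((B : M2)ᵀ * H) := (Matrix.isUnit_iff_isUnit_det _).2 (isUnit_iff_ne_zero.2 (by
      rw [Matrix.det_mul, Matrix.det_transpose]; exact mul_ne_zero hd' hHd))
    constructor
    · intro h
      refine hAH.mul_left_cancel ?_
      rw [mul_smul_comm, h, hJ]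
    · intro h
      have h3 := hJ (B : M2)
      rw [show (B : M2)ᵀ * H * (B : M2) = (B : M2)ᵀ * H * ((B : M2).det • (B : M2).map C.bar) by rw [h],
        mul_smul_comm] at h3
      exact smul_right_injective M2 hd' h3
  have hback : ∀ g : L2, Ps * (Ps⁻¹ * g * Ps) * Ps⁻¹ = g := fun g => by simp [mul_assoc]
  have hdet : ∀ g : L2, ((Ps⁻¹ * g * Ps : L2) : M2).det = (g : M2).det := fun g => by
    rw [Units.val_mul, Units.val_mul, Matrix.det_mul, Matrix.det_mul, mul_comm _ (g : M2).det, mul_assoc,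
      ← Matrix.det_mul, Units.inv_mul, Matrix.det_one, mul_one]
  refine ⟨K, Ps, hK, ?_, ?_, ?_⟩
  · intro g hg
    obtain ⟨B, hB⟩ : ∃ B, B = Ps⁻¹ * g * Ps := ⟨_, rfl⟩
    have hBm : (B : M2).det • (B : M2).map C.bar = (B : M2) := (key B).1 (by rw [hB, hback]; exact hg)
    obtain ⟨i, j, hb⟩ : ∃ i j, (B : M2) i j ≠ 0 := by
      by_contra hc
      push Not at hc
      exact Matrix.GeneralLinearGroup.det_ne_zero B (by rw [Matrix.det_fin_two]; simp [hc])
    have hfix : ∀ k l, (B : M2) k l / (B : M2) i j ∈ K := fun k l => by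
      have e1 := congrFun (congrFun hBm k) l
      have e2 := congrFun (congrFun hBm i) j
      simp only [Matrix.smul_apply, Matrix.map_apply, smul_eq_mul] at e1 e2
      rw [hmem, map_div₀]
      conv_rhs => rw [← e1, ← e2]
      rw [mul_div_mul_left _ _ (Matrix.GeneralLinearGroup.det_ne_zero B)]
    obtain ⟨A, hA⟩ : ∃ A : Matrix (Fin 2) (Fin 2) K, K.subtype.mapMatrix A = ((B : M2) i j)⁻¹ • (B : M2) :=
      ⟨fun k l => ⟨_, hfix k l⟩, Matrix.ext fun k l => by
        show (B : M2) k l / (B : M2) i j = ((B : M2) i j)⁻¹ * (B : M2) k l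
        rw [div_eq_inv_mul]⟩
    have hA0 : A.det ≠ 0 := fun e => by
      have e1 := K.subtype.map_det A
      rw [e, map_zero, hA, Matrix.det_smul, eq_comm, mul_eq_zero] at e1
      exact e1.elim (pow_ne_zero _ (inv_ne_zero hb)) (Matrix.GeneralLinearGroup.det_ne_zero B)
    refine ⟨Matrix.ProjGenLinGroup.mk (Matrix.GeneralLinearGroup.mkOfDetNeZero A hA0), ?_⟩
    rw [prj_apply, ← hB, mapG, Matrix.ProjGenLinGroup.map_mk]
    refine mk_eq_of_smul ((B : M2) i j) hb ?_
    show (B : M2) i j • K.subtype.mapMatrix A = _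
    rw [hA, smul_smul, mul_inv_cancel₀ hb, one_smul]
  · intro g hg hg1
    obtain ⟨B, hB⟩ : ∃ B, B = Ps⁻¹ * g * Ps := ⟨_, rfl⟩
    have hBd : (B : M2).det = 1 := by rw [hB, hdet, hg1]
    have hBm : (B : M2).det • (B : M2).map C.bar = (B : M2) := (key B).1 (by rw [hB, hback]; exact hg)
    rw [hBd, one_smul] at hBm
    obtain ⟨A, hA⟩ : ∃ A : Matrix (Fin 2) (Fin 2) K, K.subtype.mapMatrix A = (B : M2) :=
      ⟨fun k l => ⟨(B : M2) k l, (hmem _).2 (congrFun (congrFun hBm k) l)⟩, rfl⟩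
    have hA1 : A.det = 1 := K.subtype.injective (by rw [K.subtype.map_det, hA, hBd, map_one])
    refine ⟨_, ⟨⟨A, hA1⟩, rfl⟩, ?_⟩
    show mapG K.subtype (Matrix.ProjGenLinGroup.mk (Matrix.SpecialLinearGroup.toGL ⟨A, hA1⟩)) = _
    rw [prj_apply, ← hB, mapG, Matrix.ProjGenLinGroup.map_mk]
    exact congrArg _ (Units.ext hA)
  · rintro _ ⟨A, rfl⟩
    obtain ⟨B, hB⟩ : ∃ B : L2, (B : M2) = K.subtype.mapMatrix A.1 :=
      ⟨Matrix.SpecialLinearGroup.toGL (Matrix.SpecialLinearGroup.map K.subtype A), rfl⟩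
    have hBd : (B : M2).det = 1 := by rw [hB, ← K.subtype.map_det, A.2, map_one]
    refine ⟨Ps * B * Ps⁻¹, (key B).2 ?_, ?_, ?_⟩
    · rw [hBd, one_smul, hB]
      ext k l
      exact (hmem _).1 (A.1 k l).2
    · rw [← hBd, ← hdet (Ps * B * Ps⁻¹)]
      congr 2
      simp [mul_assoc]
    · show mapG K.subtype (Matrix.ProjGenLinGroup.mk (Matrix.SpecialLinearGroup.toGL A)) = _
      rw [prj_apply, show Ps⁻¹ * (Ps * B * Ps⁻¹) * Ps = B by simp [mul_assoc], mapG,
        Matrix.ProjGenLinGroup.map_mk]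
      exact congrArg _ (Units.ext hB.symm)

/-- monomial from normalising a generic diagonal matrix up to scalars -/
theorem mono_of_conj {g d e : L2} {a b s t c : F} (hd : (d : M2) = Matrix.diagonal ![a, b]) (hab : a ≠ b)
    (he : (e : M2) = Matrix.diagonal ![s, t]) (h : (g : M2) * (d : M2) = c • ((e : M2) * (g : M2))) : Mono (g : M2) := by
  have hdet : (g : M2) 0 0 * (g : M2) 1 1 - (g : M2) 0 1 * (g : M2) 1 0 ≠ 0 := by
    rw [← Matrix.det_fin_two]; exact Matrix.GeneralLinearGroup.det_ne_zero g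
  rw [hd, he] at h
  have e00 := congrFun (congrFun h 0) 0
  have e01 := congrFun (congrFun h 0) 1
  have e10 := congrFun (congrFun h 1) 0
  have e11 := congrFun (congrFun h 1) 1
  simp [Matrix.mul_apply, Fin.sum_univ_two, Matrix.diagonal_apply] at e00 e01 e10 e11
  have r0 : (g : M2) 0 0 = 0 ∨ (g : M2) 0 1 = 0 := by
    by_contra hc
    push Not at hc
    refine hab ?_
    have x : a = c * s := mul_left_cancel₀ hc.1 (by linear_combination e00)
    have y : b = c * s := mul_left_cancel₀ hc.2 (by linear_combination e01)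
    rw [x, y]
  have r1 : (g : M2) 1 0 = 0 ∨ (g : M2) 1 1 = 0 := by
    by_contra hc
    push Not at hc
    refine hab ?_
    have x : a = c * t := mul_left_cancel₀ hc.1 (by linear_combination e10)
    have y : b = c * t := mul_left_cancel₀ hc.2 (by linear_combination e11)
    rw [x, y]
  rcases r0 with r0 | r0 <;> rcases r1 with r1 | r1
  · exact absurd (by rw [r0, r1]; ring) hdet
  · exact Or.inr ⟨r0, r1⟩
  · exact Or.inl ⟨r0, r1⟩
  · exact absurd (by rw [r0, r1]; ring) hdet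

theorem alt_five_commute : ∀ x : alternatingGroup (Fin 5), ∀ y : alternatingGroup (Fin 5),
    x * y = y * x → y * y = 1 → x * x = 1 ∨ y = 1 := by decide +kernel

/-- a subgroup of the alternating group of degree five that is not inside the normaliser of an element of order five -/
theorem top_of_five {Y : Type*} [Group Y] [Finite Y] (e : Nonempty (Y ≃* alternatingGroup (Fin 5))) (S : Subgroup Y)
    {x f : Y} (hx : x ∈ S) (hf : f ∈ S) (hox : orderOf x = 5) (hnf : f * x * f⁻¹ ∉ Subgroup.zpowers x) : S = ⊤ := by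
  obtain ⟨e⟩ := e
  haveI := alternatingGroup.isSimpleGroup_five
  haveI : Nontrivial Y := e.toEquiv.nontrivial
  haveI : IsSimpleGroup Y := IsSimpleGroup.isSimpleGroup_of_surjective e.symm.toMonoidHom e.symm.surjective
  have hY : Nat.card Y = 60 := by
    rw [Nat.card_congr e.toEquiv, nat_card_alternatingGroup]
    simp [Nat.factorial]
  haveI : Fact (Nat.Prime 5) := ⟨by norm_num⟩
  have hdvd : Nat.card S ∣ 60 := hY ▸ Subgroup.card_subgroup_dvd_card S
  have h5 : 5 ∣ Nat.card S := hox ▸ Subgroup.orderOf_coe (⟨x, hx⟩ : S) ▸ orderOf_dvd_natCard _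
  have hidx := S.card_mul_index
  rw [hY] at hidx
  by_cases h30 : 30 ≤ Nat.card S
  · have : S.index ≤ 2 := by
      by_contra hc
      have := Nat.mul_le_mul h30 (Nat.succ_le_of_lt (not_le.1 hc))
      omega
    have h0 : S.index ≠ 0 := Subgroup.index_ne_zero_of_finite
    rcases (show S.index = 1 ∨ S.index = 2 by omega) with h | h
    · exact Subgroup.index_eq_one.1 h
    · exfalso
      haveI := Subgroup.normal_of_index_eq_two h
      rcases IsSimpleGroup.eq_bot_or_eq_top_of_normal S inferInstance with e' | e'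
      · rw [e', Subgroup.card_bot] at h30
        omega
      · rw [e', Subgroup.index_top] at h
        omega
  · exfalso
    have hn : ¬ (Subgroup.zpowers (⟨x, hx⟩ : S)).Normal := fun hN => hnf (by
      obtain ⟨k, hk⟩ := Subgroup.mem_zpowers_iff.1 (hN.conj_mem _ (Subgroup.mem_zpowers _) ⟨f, hf⟩)
      exact ⟨k, by simpa using congrArg Subtype.val hk⟩)
    have h25 : ¬ 5 ^ 2 ∣ Nat.card S := fun h => by have := h.trans hdvd; norm_num at this
    obtain ⟨c1, c2, c3⟩ := CfsgLib.Perm.Dickson.sylow_count h25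
      (P := Subgroup.zpowers (⟨x, hx⟩ : S)) (by rw [Nat.card_zpowers, ← Subgroup.orderOf_coe, hox]) hn
    have := Nat.le_of_dvd (Nat.card_pos) c2
    omega

/-- Dickson's alternatives -/
theorem alternatives (hq : QCase F q) {G : Subgroup L2} (hG : G ≤ Cfsg.GU 2 F q) (hbig : ¬ Big F q G)
    {d w : L2} (hd : d ∈ G) (hw : w ∈ G) {ν : F} (hν5 : ν ^ 5 = 1) (hν1 : ν ≠ 1)
    (hdv : (d : M2) = Matrix.diagonal ![ν, ν ^ 4]) (hw0 : (w : M2) 0 0 = 0) (hw1 : (w : M2) 1 1 = 0) :
    (∀ g ∈ G, Mono (g : M2)) ∨ ((2 : F) ≠ 0 ∧ ∃ (K : Subfield F) (Ps : L2) (X : Subgroup (G2 K)),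
      (∀ g ∈ G, ∃ x ∈ X, mapG K.subtype x = prj Ps g) ∧ Nonempty (X ≃* alternatingGroup (Fin 5))) := by
  obtain ⟨hcard, p, hp, hcp, hpq⟩ := id hq
  haveI := hcp
  haveI : Fact p.Prime := ⟨hp⟩
  obtain ⟨K, Ps, hK, hlift, hlift1, -⟩ := exists_real_frame hq
  haveI : CharP K p := (RingHom.charP_iff K.subtype K.subtype.injective p).2 hcp
  obtain ⟨X, hX⟩ : ∃ X, X = (G.map (prj Ps)).comap (mapG K.subtype) := ⟨_, rfl⟩
  have hXG : ∀ g ∈ G, ∃ x ∈ X, mapG K.subtype x = prj Ps g := fun g hg => by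
    obtain ⟨x, hx⟩ := hlift g (hG hg)
    exact ⟨x, by rw [hX, Subgroup.mem_comap, hx]; exact ⟨g, hg, rfl⟩, hx⟩
  have hν0 : ν ≠ 0 := fun e => by simp [e] at hν5
  have hν4 : ν ≠ ν ^ 4 := fun e => hν1 (by
    have h3 : ν ^ 3 = 1 := mul_left_cancel₀ hν0 (by linear_combination -e)
    linear_combination (ν ^ 3 + 1) * h3 - ν * hν5)
  obtain ⟨xd, hxdX, hxd⟩ := hXG d hd
  obtain ⟨xw, hxwX, hxw⟩ := hXG w hw
  have hd5 : xd ^ 5 = 1 := mapG_injective K.subtype (by
    rw [map_pow, map_one, hxd, ← map_pow, show d ^ 5 = 1 from Units.ext (by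
      rw [Units.val_pow_eq_pow_val, hdv, Matrix.diagonal_pow, Units.val_one, ← Matrix.diagonal_one]
      congr 1
      funext i
      fin_cases i <;> simp [← pow_mul]
      · exact hν5
      · rw [show (20 : ℕ) = 5 * 4 by norm_num, pow_mul, hν5, one_pow]), map_one])
  have hd1 : xd ≠ 1 := fun e => by
    obtain ⟨c, hc⟩ := scalar_of_prj_one (by rw [← hxd, e, map_one] : prj Ps d = 1)
    rw [hdv] at hc
    have a := congrFun (congrFun hc 0) 0
    have b := congrFun (congrFun hc 1) 1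
    simp at a b
    exact hν4 (a.trans b.symm)
  have hod : orderOf xd = 5 := by
    haveI : Fact (Nat.Prime 5) := ⟨by norm_num⟩
    exact orderOf_eq_prime hd5 hd1
  have hnc : xd * xw ≠ xw * xd := fun e => by
    obtain ⟨c, -, hc⟩ := smul_of_prj_eq (g := d * w) (h := w * d) (Ps := Ps)
      (by rw [map_mul, map_mul, ← hxd, ← hxw, ← map_mul, ← map_mul, e])
    rw [Units.val_mul, Units.val_mul, hdv] at hc
    have a := congrFun (congrFun hc 0) 1
    have b := congrFun (congrFun hc 1) 0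
    simp [Matrix.mul_apply, Fin.sum_univ_two, Matrix.diagonal_apply, hw0, hw1] at a b
    have hdet : (w : M2) 0 1 ≠ 0 ∧ (w : M2) 1 0 ≠ 0 := by
      have h := Matrix.GeneralLinearGroup.det_ne_zero w
      rw [Matrix.det_fin_two, hw0, zero_mul, zero_sub, neg_ne_zero, mul_ne_zero_iff] at h
      exact h
    have a' : ν = c * ν ^ 4 := mul_left_cancel₀ hdet.1 (by linear_combination a)
    have b' : ν ^ 4 = c * ν := mul_left_cancel₀ hdet.2 (by linear_combination b)
    refine hν1 ?_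
    have h8 : ν ^ 8 = ν ^ 2 := by linear_combination -ν * a' + ν ^ 4 * b'
    have h2 : ν ^ 2 * ν ^ 6 = ν ^ 2 * 1 := by rw [← pow_add, mul_one]; exact h8
    have := mul_left_cancel₀ (pow_ne_zero 2 hν0) h2
    rw [pow_succ, hν5, one_mul] at this
    exact this
  haveI := finite_G2 (F := K)
  have h5X : 5 ∣ Nat.card X := hod ▸ Subgroup.orderOf_coe (⟨xd, hxdX⟩ : X) ▸ orderOf_dvd_natCard _
  cases classify_finite p X with
  | borel z hz =>
    exfalso
    induction z using Projectivization.ind with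
    | _ v hv =>
      obtain ⟨u, hu⟩ : ∃ u, u = (Ps : M2) *ᵥ (fun i => (v i : F)) := ⟨_, rfl⟩
      have hv' : (fun i => (v i : F)) ≠ 0 := fun e => hv (funext fun i => Subtype.ext (congrFun e i))
      have heig : ∀ g : L2, ∀ x ∈ X, mapG K.subtype x = prj Ps g → ∃ c : F, (g : M2) *ᵥ u = c • u := by
        intro g x hx hxg
        have h := map_smul_pt K.subtype x (Projectivization.mk K v hv)
        rw [hz x hx, hxg, prj_apply, mapP, Projectivization.map_mk, mk_smul, Projectivization.mk_eq_mk_iff'] at h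
        obtain ⟨c, hc⟩ := h
        refine ⟨c, ?_⟩
        have hc' : ((Ps⁻¹ * g * Ps : L2) : M2) *ᵥ (fun i => (v i : F)) = c • fun i => (v i : F) := hc.symm
        rw [hu, ← Matrix.mulVec_smul, ← hc', Matrix.mulVec_mulVec, Matrix.mulVec_mulVec, ← Units.val_mul,
          ← Units.val_mul]
        congr 2
        simp [mul_assoc]
      obtain ⟨c, hc⟩ := heig d xd hxdX hxd
      obtain ⟨c', hc'⟩ := heig w xw hxwX hxw
      rw [hdv] at hc
      have a := congrFun hc 0
      have b := congrFun hc 1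
      have a' := congrFun hc' 0
      have b' := congrFun hc' 1
      simp [Matrix.mulVec, dotProduct, Fin.sum_univ_two, Matrix.diagonal_apply, hw0, hw1] at a b a' b'
      have hdet : (w : M2) 0 1 ≠ 0 ∧ (w : M2) 1 0 ≠ 0 := by
        have h := Matrix.GeneralLinearGroup.det_ne_zero w
        rw [Matrix.det_fin_two, hw0, zero_mul, zero_sub, neg_ne_zero, mul_ne_zero_iff] at h
        exact h
      have hu0 : u ≠ 0 := by
        rw [hu]
        exact ((Matrix.mulVec_injective_of_isUnit Ps.isUnit).ne_iff' (Matrix.mulVec_zero _)).mpr hv'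
      have h01 : u 0 = 0 ∨ u 1 = 0 := by
        by_contra hcon
        push Not at hcon
        exact hν4 ((a.resolve_right hcon.1).trans (b.resolve_right hcon.2).symm)
      rcases h01 with h0 | h0
      · rw [h0, mul_zero] at a'
        exact hu0 (funext fun i => by fin_cases i <;> [exact h0; exact (mul_eq_zero.1 a').resolve_left hdet.1])
      · rw [h0, mul_zero] at b'
        exact hu0 (funext fun i => by fin_cases i <;> [exact (mul_eq_zero.1 b').resolve_left hdet.2; exact h0])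
  | cyclic a b hg h hne =>
    exfalso
    haveI := isCyclic_pairFix (F := K) hg.1
    letI := (isCyclic_pairFix (F := K) hg.1).commGroup
    exact hnc (congrArg Subtype.val (mul_comm (⟨xd, h hxdX⟩ : pairFix a b) ⟨xw, h hxwX⟩))
  | dihedral a b hg h hn hC =>
    left
    have hdfix : xd ∈ pairFix a b := by
      by_contra hc
      have h2 := sq_of_swap hg.1 (h hxdX) hc
      refine hd1 ?_
      calc xd = xd * (xd * xd) * (xd * xd) := by rw [h2, mul_one, mul_one]
        _ = xd ^ 5 := by simp [pow_succ, mul_assoc]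
        _ = 1 := hd5
    intro g hgG
    obtain ⟨x, hxX, hxg⟩ := hXG g hgG
    have hconj : x * xd * x⁻¹ ∈ pairFix a b := by
      rcases mem_pairSet.1 (h hxX) with ⟨ha, hb⟩ | ⟨ha, hb⟩
      · exact mul_mem (mul_mem (mem_pairFix.2 ⟨ha, hb⟩) hdfix) (inv_mem (mem_pairFix.2 ⟨ha, hb⟩))
      · obtain ⟨da, db⟩ := mem_pairFix.1 hdfix
        refine mem_pairFix.2 ⟨?_, ?_⟩ <;> rw [map_mul, map_mul, map_inv, mul_smul, mul_smul]
        · rw [show (mapG (iF K) x)⁻¹ • a = b by rw [inv_smul_eq_iff, hb], db, hb]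
        · rw [show (mapG (iF K) x)⁻¹ • b = a by rw [inv_smul_eq_iff, ha], da, ha]
    haveI := isCyclic_pairFix (F := K) hg.1
    obtain ⟨k, hk⟩ : ∃ k : ℕ, x * xd * x⁻¹ = xd ^ k := by
      haveI := Fintype.ofFinite (pairFix a b)
      have hmem : (⟨_, hconj⟩ : pairFix a b) ∈ Subgroup.zpowers (⟨xd, hdfix⟩ : pairFix a b) := by
        classical
        have hso : orderOf (⟨_, hconj⟩ : pairFix a b) = 5 := by
          rw [← Subgroup.orderOf_coe]
          exact (SemiconjBy.orderOf_eq x (show SemiconjBy x xd (x * xd * x⁻¹) by simp [SemiconjBy, mul_assoc])).symm.trans hod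
        have hod' : orderOf (⟨xd, hdfix⟩ : pairFix a b) = 5 := by rw [← Subgroup.orderOf_coe]; exact hod
        have hsub : (Subgroup.zpowers (⟨xd, hdfix⟩ : pairFix a b) : Set (pairFix a b)).toFinset ⊆
            (Finset.univ.filter fun z : pairFix a b => z ^ 5 = 1) := fun z hz => by
          rw [Set.mem_toFinset] at hz
          refine Finset.mem_filter.2 ⟨Finset.mem_univ _, ?_⟩
          obtain ⟨m, rfl⟩ := Subgroup.mem_zpowers_iff.1 hz
          rw [← zpow_natCast, ← _root_.zpow_mul, mul_comm, _root_.zpow_mul, zpow_natCast, ← hod', pow_orderOf_eq_one, _root_.one_zpow]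
        have heq := Finset.eq_of_subset_of_card_le hsub (by
          rw [Set.toFinset_card, ← Nat.card_eq_fintype_card, SetLike.coe_sort_coe, Nat.card_zpowers, hod']
          exact IsCyclic.card_pow_eq_one_le (by norm_num))
        have hz : (⟨_, hconj⟩ : pairFix a b) ∈ Finset.univ.filter fun z : pairFix a b => z ^ 5 = 1 :=
          Finset.mem_filter.2 ⟨Finset.mem_univ _, hso ▸ pow_orderOf_eq_one _⟩
        rw [← heq, Set.mem_toFinset] at hz
        exact hz
      obtain ⟨k, hk⟩ := mem_powers_iff_mem_zpowers.2 hmem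
      exact ⟨k, (congrArg Subtype.val hk).symm⟩
    obtain ⟨c, -, hc⟩ := smul_of_prj_eq (g := g * d) (h := d ^ k * g) (Ps := Ps) (by
      rw [map_mul, map_mul, map_pow, ← hxg, ← hxd, ← map_pow, ← map_mul, ← map_mul, ← hk, inv_mul_cancel_right])
    rw [Units.val_mul, Units.val_mul] at hc
    refine mono_of_conj (e := d ^ k) (s := ν ^ k) (t := (ν ^ 4) ^ k) hdv hν4 ?_ hc
    rw [Units.val_pow_eq_pow_val, hdv, Matrix.diagonal_pow]
    congr 1
    funext i
    fin_cases i <;> simp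
  | a4 hN h2 h3 h =>
    rw [hN] at h5X
    norm_num at h5X
  | s4 hN h2 h3 h =>
    rw [hN] at h5X
    norm_num at h5X
  | a5 hN h2 h5 h =>
    refine Or.inr ⟨?_, K, Ps, X, hXG, h⟩
    intro e
    exact h2 ((Nat.prime_dvd_prime_iff_eq hp Nat.prime_two).1 ((CharP.cast_eq_zero_iff F p 2).1 (by exact_mod_cast e)))
  | subfield σ F1 h3 h =>
    exfalso
    have hle : conjG σ X ≤ (mapG F1.subtype).range := by
      rcases h with h | ⟨-, h⟩
      · exact h.le
      · rw [h]; rintro _ ⟨y, -, rfl⟩; exact ⟨y, rfl⟩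
    haveI := Fintype.ofFinite F1
    haveI := Fintype.ofFinite K
    obtain ⟨r, hr⟩ : ∃ r, Nat.card K = Nat.card F1 ^ r :=
      ⟨Module.finrank F1 K, by rw [Nat.card_eq_fintype_card, Nat.card_eq_fintype_card, Module.card_eq_pow_finrank (K := F1) (V := K)]⟩
    obtain ⟨i, hi, hF1⟩ := card_eq_pow (F := F1) p
    by_cases htop : Nat.card F1 = Nat.card K
    · -- everything
      have htop' : ∀ y : K, y ∈ F1 := fun y => by
        have hs : Function.Surjective F1.subtype := by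
          refine ((Fintype.bijective_iff_injective_and_card _).2 ⟨F1.subtype.injective, ?_⟩).2
          rw [← Nat.card_eq_fintype_card, ← Nat.card_eq_fintype_card, htop]
        obtain ⟨z, rfl⟩ := hs y
        exact z.2
      obtain ⟨e, he⟩ : ∃ e : F1 ≃+* K, (e : F1 →+* K) = F1.subtype :=
        ⟨RingEquiv.ofBijective F1.subtype ⟨F1.subtype.injective, fun y => ⟨⟨y, htop' y⟩, rfl⟩⟩, rfl⟩
      have hpsl : psl K ≤ conjG σ X := by
        rcases h with h | ⟨-, h⟩
        · rw [h, ← he]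
          exact fun y _ => mapG_surjective e y
        · rw [h, ← he, psl_map_equiv]
      refine hbig fun s hs hs1 => ?_
      obtain ⟨y, hy, hys⟩ := hlift1 s hs hs1
      have hyX : y ∈ X := by
        have h1 := hpsl (Subgroup.Normal.conj_mem (inferInstance : (psl K).Normal) y hy σ)
        rw [mem_conjG] at h1
        simpa [mul_assoc] using h1
      rw [hX, Subgroup.mem_comap, hys] at hyX
      obtain ⟨g, hgG, hge⟩ := hyX
      obtain ⟨c, -, hc⟩ := smul_of_prj_eq hge
      exact ⟨g, hgG, c, hc⟩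
    · -- the prime field
      have hq' : Nat.card F1 = p ∧ q = p ^ 2 := by
        have hlt : i * r ≠ i := fun e => htop (by rw [hr, hF1, ← pow_mul, e])
        have hqq : q = p ^ (i * r) := by rw [← hK, hr, hF1, ← pow_mul]
        have hr0 : r ≠ 0 := fun e => by rw [e, mul_zero, pow_zero] at hqq; have := hq.four_le; omega
        rcases hpq with ⟨hqp, -⟩ | ⟨hqp, -⟩ <;> rw [hqp] at hqq
        · have := Nat.pow_right_injective hp.two_le (hqq.symm.trans (pow_one p).symm)
          exact absurd (this.trans (Nat.eq_one_of_mul_eq_one_right this).symm) hlt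
        · have h2 := Nat.pow_right_injective hp.two_le hqq
          have : i ∣ 2 := ⟨r, h2⟩
          rcases (Nat.dvd_prime Nat.prime_two).1 this with e | e
          · exact ⟨by rw [hF1, e, pow_one], hqp⟩
          · exact absurd (h2.symm.trans e.symm) hlt
      have h5 : 5 ∣ Nat.card (G2 F1) := by
        refine h5X.trans ?_
        obtain ⟨e⟩ := conjG_equiv σ X
        rw [Nat.card_congr e.toEquiv, Nat.card_congr ((mapG F1.subtype).ofInjective (mapG_injective _)).toEquiv]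
        exact Subgroup.card_dvd_of_le hle
      rw [card_G2, hq'.1] at h5
      rcases hpq with ⟨hqp, -⟩ | ⟨-, hp5⟩
      · have := hq'.2.symm.trans hqp
        have := hp.two_le
        nlinarith
      · have h5' : Nat.Prime 5 := by norm_num
        rcases h5'.dvd_mul.1 h5 with h | h
        · rcases h5'.dvd_mul.1 h with h | h <;> omega
        · omega

/-- symmetric elements are monomial -/
theorem sym_mul_eq_zero (hq : QCase F q) {G : Subgroup L2} (hG : G ≤ Cfsg.GU 2 F q) (hbig : ¬ Big F q G)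
    {d w : L2} (hd : d ∈ G) (hw : w ∈ G) {ν : F} (hν5 : ν ^ 5 = 1) (hν1 : ν ≠ 1)
    (hdv : (d : M2) = Matrix.diagonal ![ν, ν ^ 4]) (h2 : (2 : F) ≠ 0) (hwv : (w : M2) = !![0, 1; 1, 0])
    {g : L2} (hg : g ∈ G) {a b : F} (hgv : (g : M2) = !![a, b; b, a]) : a * b = 0 := by
  rcases alternatives hq hG hbig hd hw hν5 hν1 hdv (by simp [hwv]) (by simp [hwv]) with h | ⟨-, K, Ps, X, hXG, ⟨e⟩⟩
  · rcases h g hg with ⟨h1, -⟩ | ⟨h1, -⟩ <;> simp [hgv] at h1 <;> simp [h1]
  obtain ⟨x, hxX, hx⟩ := hXG g hg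
  obtain ⟨y, hyX, hy⟩ := hXG w hw
  have hy1 : y ≠ 1 := fun e1 => by
    obtain ⟨c, hc⟩ := scalar_of_prj_one (by rw [← hy, e1, map_one] : prj Ps w = 1)
    have := congrFun (congrFun (hwv.symm.trans hc) 0) 1
    simp at this
  have hy2 : y * y = 1 := mapG_injective K.subtype (by
    rw [map_mul, map_one, hy, ← map_mul, show w * w = 1 from Units.ext (by
      rw [Units.val_mul, hwv]; ext i j; fin_cases i <;> fin_cases j <;> simp [Matrix.mul_apply, Fin.sum_univ_two]),
      map_one])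
  have hxy : x * y = y * x := mapG_injective K.subtype (by
    rw [map_mul, map_mul, hx, hy, ← map_mul, ← map_mul, show g * w = w * g from Units.ext (by
      rw [Units.val_mul, Units.val_mul, hwv, hgv]; ext i j
      fin_cases i <;> fin_cases j <;> simp [Matrix.mul_apply, Fin.sum_univ_two])])
  have hxx := (alt_five_commute (e ⟨x, hxX⟩) (e ⟨y, hyX⟩) (by rw [← map_mul, ← map_mul]; exact congrArg e (Subtype.ext hxy))
    (by rw [← map_mul, show (⟨y, hyX⟩ : X) * ⟨y, hyX⟩ = 1 from Subtype.ext hy2, map_one])).resolve_right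
    (fun e1 => hy1 (congrArg Subtype.val (e.injective (e1.trans (map_one e).symm))))
  rw [← map_mul] at hxx
  have hxx' : x * x = 1 := congrArg Subtype.val (e.injective (hxx.trans (map_one e).symm))
  obtain ⟨c, hc⟩ := scalar_of_prj_one (by rw [map_mul, ← hx, ← map_mul, hxx', map_one] : prj Ps (g * g) = 1)
  rw [Units.val_mul, hgv] at hc
  have h01 := congrFun (congrFun hc 0) 1
  simp [Matrix.mul_apply, Fin.sum_univ_two] at h01
  exact (mul_eq_zero.1 (show 2 * (a * b) = 0 by linear_combination h01)).resolve_left h2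

/-- a subgroup with the dihedral group and a non-monomial element is everything up to scalars -/
theorem exists_scalar_mul (hq : QCase F q) {G : Subgroup L2} (hG : G ≤ Cfsg.GU 2 F q) (hbig : ¬ Big F q G)
    {d w : L2} {ν : F} (hν5 : ν ^ 5 = 1) (hν1 : ν ≠ 1)
    (hdv : (d : M2) = Matrix.diagonal ![ν, ν ^ 4]) {G0 : Subgroup L2} (hle : G0 ≤ G) (hd : d ∈ G0) (hw : w ∈ G0)
    (hw0 : (w : M2) 0 0 = 0) (hw1 : (w : M2) 1 1 = 0) {f : L2} (hf : f ∈ G0) (hfm : ¬ Mono (f : M2))
    {g : L2} (hg : g ∈ G) : ∃ g0 ∈ G0, ∃ c : F, (g : M2) = c • (g0 : M2) := by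
  rcases alternatives hq hG hbig (hle hd) (hle hw) hν5 hν1 hdv hw0 hw1 with h | ⟨-, K, Ps, X, hXG, he⟩
  · exact absurd (h f (hle hf)) hfm
  haveI := finite_G2 (F := K)
  obtain ⟨x, hxX, hx⟩ := hXG g hg
  obtain ⟨xd, hdX, hxd⟩ := hXG d (hle hd)
  obtain ⟨xf, hfX, hxf⟩ := hXG f (hle hf)
  have hν0 : ν ≠ 0 := fun e => by simp [e] at hν5
  have hν4 : ν ≠ ν ^ 4 := fun e => hν1 (by
    have h3 : ν ^ 3 = 1 := mul_left_cancel₀ hν0 (by linear_combination -e)
    linear_combination (ν ^ 3 + 1) * h3 - ν * hν5)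
  have hd1 : xd ≠ 1 := fun e => by
    obtain ⟨c, hc⟩ := scalar_of_prj_one (by rw [← hxd, e, map_one] : prj Ps d = 1)
    rw [hdv] at hc
    have a := congrFun (congrFun hc 0) 0
    have b := congrFun (congrFun hc 1) 1
    simp at a b
    exact hν4 (a.trans b.symm)
  have hd5 : xd ^ 5 = 1 := mapG_injective K.subtype (by
    rw [map_pow, map_one, hxd, ← map_pow, show d ^ 5 = 1 from Units.ext (by
      rw [Units.val_pow_eq_pow_val, hdv, Matrix.diagonal_pow, Units.val_one, ← Matrix.diagonal_one]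
      congr 1
      funext i
      fin_cases i <;> simp [← pow_mul]
      · exact hν5
      · rw [show (20 : ℕ) = 5 * 4 by norm_num, pow_mul, hν5, one_pow]), map_one])
  have hod : orderOf (⟨xd, hdX⟩ : X) = 5 := by
    haveI : Fact (Nat.Prime 5) := ⟨by norm_num⟩
    rw [← Subgroup.orderOf_coe]
    exact orderOf_eq_prime hd5 hd1
  have hS := top_of_five he (((G0.map (prj Ps)).comap (mapG K.subtype)).subgroupOf X)
    (x := ⟨xd, hdX⟩) (f := ⟨xf, hfX⟩) (by rw [Subgroup.mem_subgroupOf, Subgroup.mem_comap]; exact ⟨d, hd, hxd.symm⟩)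
    (by rw [Subgroup.mem_subgroupOf, Subgroup.mem_comap]; exact ⟨f, hf, hxf.symm⟩) hod (fun hm => hfm (by
      obtain ⟨k, hk⟩ := mem_powers_iff_mem_zpowers.2 hm
      have hk' : xd ^ k = xf * xd * xf⁻¹ := congrArg Subtype.val hk
      obtain ⟨c, -, hc⟩ := smul_of_prj_eq (g := f * d) (h := d ^ k * f) (Ps := Ps) (by
        rw [map_mul, map_mul, map_pow, ← hxf, ← hxd, ← map_pow, ← map_mul, ← map_mul, hk', inv_mul_cancel_right])
      rw [Units.val_mul, Units.val_mul] at hc
      refine mono_of_conj (e := d ^ k) (s := ν ^ k) (t := (ν ^ 4) ^ k) hdv hν4 ?_ hc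
      rw [Units.val_pow_eq_pow_val, hdv, Matrix.diagonal_pow]
      congr 1
      funext i
      fin_cases i <;> simp))
  have hxS : (⟨x, hxX⟩ : X) ∈ ((G0.map (prj Ps)).comap (mapG K.subtype)).subgroupOf X := hS ▸ Subgroup.mem_top _
  rw [Subgroup.mem_subgroupOf, Subgroup.mem_comap] at hxS
  obtain ⟨g0, hg0, he0⟩ := hxS
  obtain ⟨c, -, hc⟩ := smul_of_prj_eq (g := g) (h := g0) (Ps := Ps) (by rw [← hx, he0])
  exact ⟨g0, hg0, c, hc⟩

/-- in characteristic two everything is monomial -/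
theorem mono_of_char_two (hq : QCase F q) {G : Subgroup L2} (hG : G ≤ Cfsg.GU 2 F q) (hbig : ¬ Big F q G)
    {d w : L2} (hd : d ∈ G) (hw : w ∈ G) {ν : F} (hν5 : ν ^ 5 = 1) (hν1 : ν ≠ 1)
    (hdv : (d : M2) = Matrix.diagonal ![ν, ν ^ 4]) (h2 : (2 : F) = 0) (hw0 : (w : M2) 0 0 = 0)
    (hw1 : (w : M2) 1 1 = 0) {g : L2} (hg : g ∈ G) : Mono (g : M2) := by
  rcases alternatives hq hG hbig hd hw hν5 hν1 hdv hw0 hw1 with h | ⟨h, -⟩
  · exact h g hg
  · exact absurd h2 h

/-- a non-scalar normalised subgroup of the special unitary group is everything -/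
theorem full_of_normalised (hq : QCase F q) {N : Subgroup L2}
    (hN : N ≤ Cfsg.GU 2 F q ⊓ Cfsg.Geo.specialLinear (Fin 2) F)
    (hn : ∀ s ∈ Cfsg.GU 2 F q ⊓ Cfsg.Geo.specialLinear (Fin 2) F, ∀ n ∈ N, s * n * s⁻¹ ∈ N)
    {n : L2} (hnN : n ∈ N) (hns : ∀ c : F, (n : M2) ≠ c • 1) :
    Cfsg.GU 2 F q ⊓ Cfsg.Geo.specialLinear (Fin 2) F ≤ N := by
  obtain ⟨K, Ps, hK, -, hlift, hsurj⟩ := exists_real_frame hq
  have hdet : ∀ s ∈ Cfsg.Geo.specialLinear (Fin 2) F, (s : M2).det = 1 := fun s hs => by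
    have h1 : Matrix.GeneralLinearGroup.det s = 1 := hs
    rw [← Matrix.GeneralLinearGroup.val_det_apply, h1, Units.val_one]
  have hsl : ∀ s : L2, (s : M2).det = 1 → s ∈ Cfsg.Geo.specialLinear (Fin 2) F := fun s hs =>
    show Matrix.GeneralLinearGroup.det s = 1 from
      Units.ext (by rw [Matrix.GeneralLinearGroup.val_det_apply, Units.val_one]; exact hs)
  obtain ⟨Y, hY⟩ : ∃ Y : Subgroup (S2P K), Y = down ((N.map (prj Ps)).comap (mapG K.subtype)) := ⟨_, rfl⟩
  have hYn : Y.Normal := ⟨fun y hy g => by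
    rw [hY, down, Subgroup.mem_comap, Subgroup.mem_comap] at hy ⊢
    obtain ⟨m, hm, hme⟩ := hy
    obtain ⟨s, hs, hs1, hse⟩ := hsurj (incl g) (incl_mem g)
    refine ⟨s * m * s⁻¹, hn s ⟨hs, hsl s hs1⟩ m hm, ?_⟩
    rw [map_mul, map_mul, map_inv, ← hse, hme, ← map_inv, ← map_mul, ← map_mul, ← map_inv, ← map_mul, ← map_mul]⟩
  haveI : IsSimpleGroup (S2P K) := (psl_simple_noncomm (F := K) (hK ▸ hq.four_le)).1
  have hYtop : Y = ⊤ := by
    refine (IsSimpleGroup.eq_bot_or_eq_top_of_normal Y hYn).resolve_left fun hb => ?_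
    obtain ⟨x, hx, hxn⟩ := hlift n (hN hnN).1 (hdet n (hN hnN).2)
    rw [← incl_range] at hx
    obtain ⟨y, rfl⟩ := hx
    have : y ∈ Y := by rw [hY, down, Subgroup.mem_comap, Subgroup.mem_comap]; exact ⟨n, hnN, hxn.symm⟩
    rw [hb, Subgroup.mem_bot] at this
    rw [this, map_one, map_one] at hxn
    obtain ⟨c, hc⟩ := scalar_of_prj_one hxn.symm
    exact hns c hc
  -- up to sign
  have hpm : ∀ s ∈ Cfsg.GU 2 F q ⊓ Cfsg.Geo.specialLinear (Fin 2) F,
      ∃ m ∈ N, (s : M2) = (m : M2) ∨ (s : M2) = -(m : M2) := by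
    intro s hs
    obtain ⟨x, hx, hxs⟩ := hlift s hs.1 (hdet s hs.2)
    rw [← incl_range] at hx
    obtain ⟨y, rfl⟩ := hx
    have hy : y ∈ Y := hYtop ▸ Subgroup.mem_top y
    rw [hY, down, Subgroup.mem_comap, Subgroup.mem_comap] at hy
    obtain ⟨m, hm, hme⟩ := hy
    obtain ⟨c, -, hc⟩ := smul_of_prj_eq (g := s) (h := m) (Ps := Ps) (by rw [← hxs, hme])
    have hd := congrArg Matrix.det hc
    rw [Matrix.det_smul, hdet s hs.2, hdet m (hN hm).2, Fintype.card_fin, mul_one] at hd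
    refine ⟨m, hm, ?_⟩
    rcases sq_eq_one_iff.1 hd.symm with e | e
    · left; rw [hc, e, one_smul]
    · right; rw [hc, e, neg_one_smul]
  intro s hs
  obtain ⟨m, hm, e | e⟩ := hpm s hs
  · exact (Units.ext e : s = m) ▸ hm
  obtain ⟨C⟩ := CfsgLib.Perm.Trans.Unit.ctx_of_card hq.1
  obtain ⟨j, hj⟩ : ∃ j : L2, (j : M2) = !![0, 1; -1, 0] :=
    ⟨Matrix.GeneralLinearGroup.mkOfDetNeZero !![0, 1; -1, 0] (by simp [Matrix.det_fin_two]), rfl⟩
  have hjs : j ∈ Cfsg.GU 2 F q ⊓ Cfsg.Geo.specialLinear (Fin 2) F := by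
    refine ⟨C.mem_gu_iff_mat.2 ?_, hsl j (by rw [hj]; simp [Matrix.det_fin_two])⟩
    rw [hj]
    ext a b
    fin_cases a <;> fin_cases b <;> simp [Matrix.mul_apply, Fin.sum_univ_two]
  have hjj : (j : M2) * (j : M2) = -1 := by
    rw [hj]; ext a b; fin_cases a <;> fin_cases b <;> simp [Matrix.mul_apply, Fin.sum_univ_two]
  obtain ⟨m', hm', e'⟩ := hpm j hjs
  have hneg : ((m' * m' : L2) : M2) = -1 := by
    rw [Units.val_mul]
    rcases e' with e' | e'
    · rw [← e', hjj]
    · rw [← hjj, e', neg_mul_neg]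
  have : s = m' * m' * m := Units.ext (by rw [Units.val_mul _ m, hneg, e, neg_one_mul])
  rw [this]
  exact mul_mem (mul_mem hm' hm') hm

end CfsgLib.Perm.Trans.UnitFive.Pauli
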