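import Cfsg.Agent.Lib.Perm.Trans.UnitFive.Pauli.Data
import Cfsg.Agent.Lib.Perm.Trans.FiveDim.Pauli.Clause
import Cfsg.Agent.Lib.Perm.Trans.ThreeDim.HeisSL

/-!
# The normaliser of the frame group in `SU₅(q)`

The generators are unitary, the normaliser is proper, and maximality follows once every overgroup
different from the whole group normalises the frame.
-/

set_option autoImplicit false
set_option linter.all false

namespace CfsgLib.Perm.Trans.UnitFive.Pauli

open scoped Matrix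
open Matrix Cfsg Cfsg.Geo CfsgLib.Perm.Asch CfsgLib.Perm.Trans CfsgLib.Perm.Trans.FiveDim.Pauli

variable {F : Type*} [Field F] [Fintype F] {q : ℕ}

local notation "M5" => Matrix (Fin 5) (Fin 5) F
local notation "G5" => GL (Fin 5) F

theorem mem_suG_iff {g : G5} : g ∈ suG F q ↔ g ∈ Cfsg.GU 5 F q ∧ (g : M5).det = 1 := by
  rw [suG, Subgroup.mem_inf, mem_SL_five]

/-- the frame and the elements of its normaliser are unitary -/
theorem gens_mem_suG (ω : Root F) (hq : QCase F q) :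
    gD ω ∈ suG F q ∧ gS ω ∈ suG F q ∧ gQ ω ∈ suG F q ∧ gW ω ∈ suG F q ∧ gP ω ∈ suG F q := by
  obtain ⟨C⟩ := Unit.ctx_of_card hq.1
  have hμ : C.bar ω.μ = ω.μ ^ 4 := hq.pow_five_bar C ω.pow5
  have hμ5 := ω.pow5
  have hdiag : ∀ (g : G5) (d : Fin 5 → F), (g : M5) = Matrix.diagonal d → (∀ i, d i * C.bar (d i) = 1) →
      g ∈ Cfsg.GU 5 F q := fun g d hg hd => C.mem_gu_iff_mat.2 (by
    rw [hg, Matrix.diagonal_transpose, Matrix.diagonal_map (map_zero _), Matrix.diagonal_mul_diagonal,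
      ← Matrix.diagonal_one]
    congr 1
    funext i
    exact hd i)
  refine ⟨mem_suG_iff.2 ⟨hdiag _ _ (val_gD ω) fun i => ?_, by rw [val_gD, det_dm ω.pow5]⟩,
    mem_suG_iff.2 ⟨C.mem_gu_iff_mat.2 ?_, by rw [val_gS, det_sm ω]⟩,
    mem_suG_iff.2 ⟨hdiag _ _ (val_gQ ω) fun i => ?_, by rw [val_gQ, det_qd ω.pow5]⟩,
    mem_suG_iff.2 ⟨C.mem_gu_iff_mat.2 ?_, by rw [val_gW, det_wm ω.two]⟩,
    mem_suG_iff.2 ⟨C.mem_gu_iff_mat.2 ?_, by rw [val_gP, det_fm]⟩⟩
  · fin_cases i <;> simp [map_pow, hμ] <;> grind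
  · rw [show (gS ω).1 = (sm : M5) from rfl]
    ext i j
    fin_cases i <;> fin_cases j <;> simp [sm, Matrix.mul_apply, Fin.sum_univ_five]
  · fin_cases i <;> simp [map_pow, hμ] <;> grind
  · rw [show (gW ω).1 = (wm : M5) from rfl]
    ext i j
    fin_cases i <;> fin_cases j <;> simp [wm, Matrix.mul_apply, Fin.sum_univ_five]
  · rw [show (gP ω).1 = fm ω from rfl]
    have hη : C.bar ω.η = ω.η := by
      simp only [Root.η, map_add, map_sub, map_pow, hμ]
      grind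
    have h1 : (fm ω).map C.bar = fm ω * tm := by
      ext i j
      rw [mul_tm_apply]
      fin_cases i <;> fin_cases j <;> simp [fm, map_pow, map_inv₀, hη, hμ] <;> grind
    have h2 : (fm ω)ᵀ = fm ω := by
      ext i j
      fin_cases i <;> fin_cases j <;> simp [fm]
    rw [h2, h1, ← mul_assoc, fm_sq, tm_sq]

/-- the normaliser of the frame is not the whole group -/
theorem not_suG_le_normalizer (ω : Root F) (hq : QCase F q) :
    ¬ suG F q ≤ Subgroup.normalizer (gR ω : Set G5) := by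
  classical
  intro hle
  obtain ⟨C⟩ := Unit.ctx_of_card hq.1
  have hq5 : 5 ≤ q := by
    have h4 := hq.four_le
    rcases Nat.lt_or_ge q 5 with h | h
    · exfalso
      obtain rfl : q = 4 := by omega
      have h0 : ((Fintype.card F : ℕ) : F) = 0 := FiniteField.cast_card_eq_zero F
      rw [hq.1] at h0
      push_cast at h0
      have h16 : (2 : F) ^ 4 = 0 := by linear_combination h0
      exact ω.two (pow_eq_zero_iff (by norm_num) |>.1 h16)
    · exact h
  obtain ⟨b, hb⟩ := IsCyclic.exists_ofOrder_eq_natCard (α := Fˣ)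
  rw [Nat.card_units, Nat.card_eq_fintype_card, hq.1] at hb
  obtain ⟨u, hu⟩ : ∃ u : Fˣ, u = b ^ (q - 1) := ⟨_, rfl⟩
  have hu1 : u ^ (q + 1) = 1 := by
    rw [hu, ← pow_mul, mul_comm, show (q + 1) * (q - 1) = q ^ 2 - 1 from by
      rw [← Nat.sq_sub_sq, one_pow], ← hb, pow_orderOf_eq_one]
  obtain ⟨a, ha⟩ : ∃ a : F, a = (u : F) := ⟨_, rfl⟩
  have haN : a * C.bar a = 1 := by
    have h := congrArg Units.val hu1
    rw [Units.val_pow_eq_pow_val, Units.val_one, ← ha, pow_succ', ← C.bar_eq] at h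
    exact h
  have ha0 : a ≠ 0 := ha ▸ u.ne_zero
  have ha5 : a ^ 5 ≠ 1 := fun h => by
    have h5 : b ^ ((q - 1) * 5) = 1 := by
      rw [pow_mul, ← hu]
      exact Units.ext (by rw [Units.val_pow_eq_pow_val, ← ha, h, Units.val_one])
    have h6 := Nat.le_of_dvd (by omega) (orderOf_dvd_of_pow_eq_one h5)
    rw [hb] at h6
    have h7 : q ^ 2 - 1 = (q + 1) * (q - 1) := by rw [← Nat.sq_sub_sq, one_pow]
    rw [h7, mul_comm (q - 1) 5] at h6
    have := Nat.le_of_mul_le_mul_right h6 (by omega)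
    omega
  obtain ⟨g, hg⟩ : ∃ g : G5, (g : M5) = Matrix.diagonal ![a, a⁻¹, 1, 1, 1] :=
    ⟨Matrix.GeneralLinearGroup.mkOfDetNeZero (Matrix.diagonal ![a, a⁻¹, 1, 1, 1]) (by
      rw [Matrix.det_diagonal, Fin.prod_univ_five]; simp [ha0]), rfl⟩
  have hgN := hle (mem_suG_iff.2 ⟨C.mem_gu_iff_mat.2 (by
    rw [hg, Matrix.diagonal_transpose, Matrix.diagonal_map (map_zero _), Matrix.diagonal_mul_diagonal,
      ← Matrix.diagonal_one]
    congr 1
    funext i
    fin_cases i <;> simp [haN, ← mul_inv]), by rw [hg, Matrix.det_diagonal, Fin.prod_univ_five]; simp [ha0]⟩)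
  have h1 : g * gS ω * g⁻¹ ∈ gR ω := ((Subgroup.mem_normalizer_iff.1 hgN) (gS ω)).1 (gS_mem ω)
  obtain ⟨i, j, k, hijk⟩ := exists_form ω h1
  have hinv : ((g⁻¹ : G5) : M5) = Matrix.diagonal ![a⁻¹, a, 1, 1, 1] := by
    refine left_inv_eq_right_inv (a := (g : M5)) (Units.inv_mul g) ?_
    rw [hg, Matrix.diagonal_mul_diagonal, ← Matrix.diagonal_one]
    congr 1
    funext l
    fin_cases l <;> simp [ha0]
  have h2 := congrArg (fun w : G5 => (w : M5) 2 1) hijk
  rw [pow_eq_pow_mod i (gS_pow_five (ω := ω))] at h2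
  rw [Units.val_mul, Units.val_mul, Units.val_mul, Units.val_mul, val_gZ_pow, val_gD_pow, Units.val_pow_eq_pow_val,
    hg, hinv, val_gS] at h2
  simp only [
    Matrix.mul_smul, mul_one, Matrix.smul_apply, smul_eq_mul, dm, Matrix.mul_diagonal, Matrix.diagonal_mul] at h2
  have hval : a = 0 ∨ a = ω.μ ^ k * ω.μ ^ j := by
    have := Nat.mod_lt i (show 5 > 0 by norm_num)
    interval_cases i % 5 <;> simp [sm, pow_succ, Matrix.mul_apply, Fin.sum_univ_five] at h2 <;>
      first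
        | exact Or.inl h2
        | exact Or.inr h2
  refine ha5 ?_
  rw [hval.resolve_left ha0, ← pow_add, ← pow_mul, mul_comm, pow_mul, ω.pow5, one_pow]

/-- the frame case -/
theorem frame_maximal (ω : Root F) (hq : QCase F q)
    (hmax : ∀ M, UCtx5 ω q M → M ≤ Subgroup.normalizer (gR ω : Set G5)) :
    IsMaximalIn (suG F q) (Subgroup.normalizer (gR ω : Set G5) ⊓ suG F q) := by
  classical
  refine ⟨lt_of_le_of_ne inf_le_right fun e => not_suG_le_normalizer ω hq (e ▸ inf_le_left), fun M hHM hM => ?_⟩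
  by_cases hne : M = suG F q
  · exact Or.inr hne
  obtain ⟨hD, hS, hQ, hW, hP⟩ := gens_mem_suG ω hq
  obtain ⟨nQ, nW, nP⟩ := mem_normalizer_gR ω
  have hR : gR ω ≤ Subgroup.normalizer (gR ω : Set G5) := Subgroup.le_normalizer
  exact Or.inl (le_antisymm (le_inf (hmax M ⟨hq, hM, hne, hHM ⟨hR (gD_mem ω), hD⟩, hHM ⟨hR (gS_mem ω), hS⟩,
    hHM ⟨nQ, hQ⟩, hHM ⟨nW, hW⟩, hHM ⟨nP, hP⟩⟩) hM) hHM)

/-- transport along a unitary change of basis -/
theorem maximal_conj {Pc : G5} (hPc : Pc ∈ Cfsg.GU 5 F q) {R₀ : Subgroup G5}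
    (h : IsMaximalIn (suG F q) (Subgroup.normalizer (R₀ : Set G5) ⊓ suG F q)) :
    IsMaximalIn (suG F q) (subgroupNormalizer (R₀.map (MulAut.conj Pc).toMonoidHom) ⊓ suG F q) := by
  have hSL : ∀ (P x : G5), x ∈ specialLinear (Fin 5) F → P * x * P⁻¹ ∈ specialLinear (Fin 5) F :=
    fun P x hx => (inferInstance : (MonoidHom.ker (Matrix.GeneralLinearGroup.det : G5 →* Fˣ)).Normal).conj_mem x hx P
  have h' := ThreeDim.Heis.isMaximalIn_map (MulAut.conj Pc) h
  rw [Subgroup.map_inf_eq (Subgroup.normalizer (R₀ : Set G5)) (suG F q) _ (MulAut.conj Pc).injective,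
    Subgroup.map_equiv_normalizer_eq,
    ThreeDim.Heis.map_conj_eq_self (K := suG F q)
      (fun x hx => ⟨(Cfsg.GU 5 F q).mul_mem ((Cfsg.GU 5 F q).mul_mem hPc hx.1) ((Cfsg.GU 5 F q).inv_mem hPc),
        hSL Pc x hx.2⟩)
      (fun x hx => ⟨(Cfsg.GU 5 F q).mul_mem ((Cfsg.GU 5 F q).mul_mem ((Cfsg.GU 5 F q).inv_mem hPc) hx.1) hPc,
        by simpa using hSL Pc⁻¹ x hx.2⟩)] at h'
  exact h'

/-- the clause in odd characteristic, given that overgroups normalise the frame -/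
theorem symplectic_maximal_five_of (hq : QCase F q) (h2 : (2 : F) ≠ 0)
    (hmax : ∀ (ω : Root F) (M : Subgroup G5), UCtx5 ω q M → M ≤ Subgroup.normalizer (gR ω : Set G5))
    {R : Subgroup G5} (hsymp : IsSymplecticTypeGroup 5 R) (habs : ActsAbsolutelyIrreducibly (matrixSet R))
    (hsim : R ≤ similarityGroup (hermForm 5 F q)) (h125 : Nat.card R = 125)
    (hZ : Nat.card (Subgroup.center R) = 5) :
    IsMaximalIn (suG F q) (subgroupNormalizer R ⊓ suG F q) := by
  obtain ⟨μ, hμ5, hμ1, Pc, hPc, D, S, hD, hS, rfl⟩ := exists_frame hq hsymp habs hsim h125 hZ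
  have h5 : (5 : F) ≠ 0 := fun h => hμ1 (by
    have hz : (μ - 1) ^ 5 = 0 := by linear_combination hμ5 + (-μ ^ 4 + 2 * μ ^ 3 - 2 * μ ^ 2 + μ) * h
    exact sub_eq_zero.1 (pow_eq_zero_iff (by norm_num) |>.1 hz))
  let ω : Root F := ⟨μ, (mul_eq_zero.1 (show (μ - 1) * (μ ^ 4 + μ ^ 3 + μ ^ 2 + μ + 1) = 0 by
    linear_combination hμ5)).resolve_left (sub_ne_zero.2 hμ1), h5, h2⟩
  have h := maximal_conj hPc (frame_maximal ω hq (hmax ω))
  rwa [gR, show gD ω = D from Units.ext hD.symm, show gS ω = S from Units.ext hS.symm] at h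

end CfsgLib.Perm.Trans.UnitFive.Pauli
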