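import Cfsg.Agent.Lib.Perm.Trans.UnitFive.Pauli.Ctx
import Cfsg.Agent.Lib.Perm.Trans.UnitFive.Pauli.Dich
import Cfsg.Agent.Lib.Perm.Trans.UnitFive.SingerSpread

/-!
# Overgroups whose centraliser of the phase is large contain transvections
-/

set_option autoImplicit false
set_option linter.all false

namespace CfsgLib.Perm.Trans.UnitFive.Pauli

open scoped Matrix
open Matrix Cfsg.Geo CfsgLib.Perm.Trans.FiveDim.Pauli CfsgLib.Perm.Asch CfsgLib.Perm.Trans

variable {F : Type*} [Field F] [Fintype F] {q : ℕ}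

local notation "M2" => Matrix (Fin 2) (Fin 2) F
local notation "M5" => Matrix (Fin 5) (Fin 5) F
local notation "G5" => GL (Fin 5) F

variable {ω : Root F} {M : Subgroup (GL (Fin 5) F)}

/-- invertible two by two matrices commuting with a generic diagonal matrix up to a scalar are diagonal -/
theorem diag_of_comm_smul {ν c : F} (hν : ν ^ 5 = 1) (hν1 : ν ≠ 1) {z : GL (Fin 2) F}
    (h : (z : M2) * Matrix.diagonal ![ν, ν ^ 4] = c • (Matrix.diagonal ![ν, ν ^ 4] * (z : M2))) :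
    (z : M2) 0 1 = 0 ∧ (z : M2) 1 0 = 0 := by
  have hν0 : ν ≠ 0 := fun e => by simp [e] at hν
  have hd : (z : M2) 0 0 * (z : M2) 1 1 - (z : M2) 0 1 * (z : M2) 1 0 ≠ 0 := by
    rw [← Matrix.det_fin_two]; exact Matrix.GeneralLinearGroup.det_ne_zero z
  have e00 := congrFun (congrFun h 0) 0
  have e01 := congrFun (congrFun h 0) 1
  have e10 := congrFun (congrFun h 1) 0
  have e11 := congrFun (congrFun h 1) 1
  simp [Matrix.mul_apply, Fin.sum_univ_two, Matrix.diagonal_apply] at e00 e01 e10 e11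
  have key : c = 1 → (z : M2) 0 1 = 0 ∧ (z : M2) 1 0 = 0 := by
    rintro rfl
    have hne : ν ^ 4 - ν ≠ 0 := sub_ne_zero.2 fun e => hν1 (by
      have h3 : ν ^ 3 = 1 := mul_right_cancel₀ hν0 (by linear_combination e)
      linear_combination (ν ^ 3 + 1) * h3 - ν * hν)
    exact ⟨(mul_eq_zero.1 (show (z : M2) 0 1 * (ν ^ 4 - ν) = 0 by linear_combination e01)).resolve_right hne,
      (mul_eq_zero.1 (show (z : M2) 1 0 * (ν ^ 4 - ν) = 0 by linear_combination -e10)).resolve_right hne⟩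
  by_cases h00 : (z : M2) 0 0 = 0
  · exfalso
    rw [h00, zero_mul, zero_sub, neg_ne_zero, mul_ne_zero_iff] at hd
    have a : c * ν = ν ^ 4 := mul_right_cancel₀ hd.1 (by linear_combination -e01)
    have b : c * ν ^ 4 = ν := mul_right_cancel₀ hd.2 (by linear_combination -e10)
    refine hν1 ?_
    have h3 : (ν ^ 4) * ν ^ 4 = ν * ν := by linear_combination ν * b - ν ^ 4 * a
    have h2 : ν = 1 ∨ ν * ν = ν ^ 3 := Or.inr (by linear_combination -h3 + ν ^ 3 * hν)
    rcases h2 with h2 | h2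
    · exact h2
    · have h4 : (1 : F) = ν := mul_right_cancel₀ (mul_ne_zero hν0 hν0) (by linear_combination h2)
      exact h4.symm
  · refine key (mul_right_cancel₀ (mul_ne_zero hν0 h00) ?_)
    linear_combination -e00

theorem wm_conj {g h : M5} (e : h * wm = wm * g) (i j : Fin 5) : h (2 * i) (2 * j) = g i j := by
  have := congrFun (congrFun e (2 * i)) j
  fin_cases i <;> fin_cases j <;> simp [wm, Matrix.mul_apply, Fin.sum_univ_five] at this ⊢ <;>
    first | exact this | linear_combination -this | linear_combination this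

theorem sm_conj {g h : M5} (e : h * sm = sm * g) (i j : Fin 5) : h (i + 1) (j + 1) = g i j := by
  have := congrFun (congrFun e (i + 1)) j
  fin_cases i <;> fin_cases j <;> simp [sm, Matrix.mul_apply, Fin.sum_univ_five] at this ⊢ <;>
    first | exact this | linear_combination this | linear_combination -this

/-- conjugation by `W` exchanges the pairs -/
theorem exists_swap (h : UCtx5 ω q M) (g : Cq ω M) : ∃ k : Cq ω M,
    p2 ((k : G5) : M5) = p1 ((g : G5) : M5) ∧
      p1 ((k : G5) : M5) = !![((g : G5) : M5) 3 3, ((g : G5) : M5) 3 2; ((g : G5) : M5) 2 3, ((g : G5) : M5) 2 2] := by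
  obtain ⟨hg, hgq⟩ := mem_Cq.1 g.2
  obtain ⟨x, hx⟩ : ∃ x, x = gW ω * (g : G5) * (gW ω)⁻¹ := ⟨_, rfl⟩
  have hq4 : Commute (g : G5) (gQ ω ^ 4) := (show Commute (g : G5) (gQ ω) from hgq).pow_right 4
  have hc : x * gQ ω ^ 4 = gQ ω ^ 4 * x := by
    have hw : (gW ω)⁻¹ * gQ ω ^ 4 = gQ ω * (gW ω)⁻¹ := by
      rw [inv_mul_eq_iff_eq_mul, ← mul_assoc, gW_mul_gQ, mul_inv_cancel_right]
    calc x * gQ ω ^ 4 = gW ω * ((g : G5) * gQ ω) * (gW ω)⁻¹ := by rw [hx]; simp only [mul_assoc, hw]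
      _ = gW ω * (gQ ω * (g : G5)) * (gW ω)⁻¹ := by rw [hgq]
      _ = (gW ω * gQ ω) * (g : G5) * (gW ω)⁻¹ := by simp only [mul_assoc]
      _ = gQ ω ^ 4 * x := by rw [gW_mul_gQ, hx]; simp only [mul_assoc]
  have hxq : x * gQ ω = gQ ω * x := by
    have h4 : gQ ω = (gQ ω ^ 4) ^ 4 := by
      rw [← pow_mul, show 4 * 4 = 5 * 3 + 1 from rfl, pow_succ, pow_mul, gQ_pow_five, one_pow, one_mul]
    rw [h4]
    exact (show Commute x (gQ ω ^ 4) from hc).pow_right 4
  have hxM : x ∈ M := hx ▸ mul_mem (mul_mem h.memW hg) (inv_mem h.memW)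
  have e : (x : M5) * wm = wm * ((g : G5) : M5) := by
    rw [← val_gW ω, ← Units.val_mul, ← Units.val_mul, hx, inv_mul_cancel_right]
  have E := wm_conj e
  refine ⟨⟨x, mem_Cq.2 ⟨hxM, hxq⟩⟩, ?_, ?_⟩
  · ext i j
    fin_cases i <;> fin_cases j
    exacts [E 1 1, E 1 4, E 4 1, E 4 4]
  · ext i j
    fin_cases i <;> fin_cases j
    exacts [E 3 3, E 3 2, E 2 3, E 2 2]

/-- if a scalar on the second pair is not one on the first, the group is everything -/
theorem false_of_split (h : UCtx5 ω q M) (hbig : Big F q (pr1 ω M).range) {z : Cq ω M}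
    (hz2 : ∃ c : F, p2 ((z : G5) : M5) = c • (1 : M2)) (hz1 : ∀ c : F, p1 ((z : G5) : M5) ≠ c • (1 : M2)) :
    False := by
  classical
  obtain ⟨C⟩ := CfsgLib.Perm.Trans.Unit.ctx_of_card h.qcase.1
  have hU := CfsgLib.Perm.Trans.Unit.isUnitary_hermForm C (n := 5)
  obtain ⟨K, hK⟩ : ∃ K, K = (pr0 ω M).ker ⊓ (pr2 ω M).ker := ⟨_, rfl⟩
  haveI : K.Normal := hK ▸ inferInstance
  obtain ⟨N, hN⟩ : ∃ N, N = K.map (pr1 ω M) ⊓ specialLinear (Fin 2) F := ⟨_, rfl⟩
  have hNG : N ≤ Cfsg.GU 2 F q ⊓ specialLinear (Fin 2) F := by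
    subst hN
    rintro _ ⟨⟨k, -, rfl⟩, hd⟩
    exact ⟨pr1_mem h k, hd⟩
  have hcomm : ∀ x : Cq ω M, z * x * z⁻¹ * x⁻¹ ∈ K := fun x => by
    obtain ⟨c, hc⟩ := hz2
    have h2 : pr2 ω M z * pr2 ω M x = pr2 ω M x * pr2 ω M z := Units.ext (by
      rw [Units.val_mul, Units.val_mul, val_pr2 z, hc, Matrix.smul_mul, Matrix.mul_smul, one_mul, mul_one])
    subst hK
    refine ⟨?_, ?_⟩
    · show pr0 ω M (z * x * z⁻¹ * x⁻¹) = 1
      simp [mul_comm, mul_left_comm]
    · show pr2 ω M (z * x * z⁻¹ * x⁻¹) = 1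
      rw [map_mul, map_mul, map_mul, map_inv, map_inv, h2, mul_inv_cancel_right, mul_inv_cancel]
  have hcN : ∀ x : Cq ω M, pr1 ω M (z * x * z⁻¹ * x⁻¹) ∈ N := fun x => by
    rw [hN]
    refine ⟨Subgroup.mem_map_of_mem _ (hcomm x), ?_⟩
    show Matrix.GeneralLinearGroup.det (pr1 ω M (z * x * z⁻¹ * x⁻¹)) = 1
    simp [map_mul, map_inv, mul_comm, mul_left_comm]
  -- a commutator which is not a scalar
  obtain ⟨n, hn, hns⟩ : ∃ n ∈ N, ∀ c : F, (n : M2) ≠ c • 1 := by
    by_contra hcon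
    push Not at hcon
    have hsc : ∀ x : Cq ω M, ∃ c : F,
        (pr1 ω M z : M2) * (pr1 ω M x : M2) = c • ((pr1 ω M x : M2) * (pr1 ω M z : M2)) := fun x => by
      obtain ⟨c, hc⟩ := hcon _ (hcN x)
      refine ⟨c, ?_⟩
      rw [← Units.val_mul, ← Units.val_mul, ← map_mul, ← map_mul, show z * x = z * x * z⁻¹ * x⁻¹ * (x * z) by group,
        map_mul, Units.val_mul, hc, Matrix.smul_mul, one_mul]
    obtain ⟨c, hc⟩ := hsc (cD h)
    rw [pr1_cD] at hc
    obtain ⟨z01, z10⟩ := diag_of_comm_smul ω.pow5 ω.ne_one hc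
    have hzd := Matrix.GeneralLinearGroup.det_ne_zero (pr1 ω M z)
    rw [Matrix.det_fin_two, z01, zero_mul, sub_zero, mul_ne_zero_iff] at hzd
    have hne : (pr1 ω M z : M2) 0 0 ≠ (pr1 ω M z : M2) 1 1 := fun e => hz1 ((pr1 ω M z : M2) 0 0) (by
      rw [← val_pr1]
      ext i j
      fin_cases i <;> fin_cases j <;> simp [z01, z10, ← e])
    -- the Fourier matrix of the differences is not monomial
    obtain ⟨s, hs⟩ : ∃ s, s = prB ω M (tP h) := ⟨_, rfl⟩
    have hsv : (s : M2) = (-ω.η⁻¹) • !![ω.μ - ω.μ ^ 4, ω.μ ^ 2 - ω.μ ^ 3; ω.μ ^ 2 - ω.μ ^ 3, ω.μ ^ 4 - ω.μ] := by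
      rw [hs, val_prB]; exact Bm_fm ω
    obtain ⟨_, ⟨x, rfl⟩, l, hl⟩ := hbig s (hs ▸ prB_mem h _) (by rw [hs, val_prB]; exact det_Bm_fm ω)
    have hl0 : l ≠ 0 := fun e => Matrix.GeneralLinearGroup.det_ne_zero (pr1 ω M x) (by
      rw [hl, e, zero_smul, Matrix.det_zero])
    obtain ⟨c, hc⟩ := hsc x
    rw [hl] at hc
    have e00 := congrFun (congrFun hc 0) 0
    have e01 := congrFun (congrFun hc 0) 1
    simp [hsv, Matrix.mul_apply, Matrix.vecMul, dotProduct, Fin.sum_univ_two, z01, z10] at e00 e01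
    have h14 : ω.μ - ω.μ ^ 4 ≠ 0 := sub_ne_zero.2 fun e => ω.pow_ne_one (k := 3) (by norm_num)
      (mul_right_cancel₀ ω.ne_zero (by linear_combination -e))
    have h23 : ω.μ ^ 2 - ω.μ ^ 3 ≠ 0 := sub_ne_zero.2 fun e => ω.ne_one
      (mul_right_cancel₀ (pow_ne_zero 2 ω.ne_zero) (by linear_combination -e))
    have hη := inv_ne_zero ω.η_ne_zero
    refine hne ?_
    have hc1 : c = 1 := mul_right_cancel₀
      (mul_ne_zero (mul_ne_zero (mul_ne_zero hl0 hη) h14) hzd.1) (by first | linear_combination e00 | linear_combination -e00)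
    subst hc1
    refine mul_right_cancel₀ (mul_ne_zero (mul_ne_zero hl0 hη) h23) ?_
    first | linear_combination e01 | linear_combination -e01
  have hnorm : ∀ s ∈ Cfsg.GU 2 F q ⊓ specialLinear (Fin 2) F, ∀ a ∈ N, s * a * s⁻¹ ∈ N := by
    intro s hs a ha
    subst hN
    have hsd : (s : M2).det = 1 := by
      have h1 : Matrix.GeneralLinearGroup.det s = 1 := hs.2
      rw [← Matrix.GeneralLinearGroup.val_det_apply, h1, Units.val_one]
    obtain ⟨_, ⟨x, rfl⟩, l, hl⟩ := hbig s hs.1 hsd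
    obtain ⟨⟨k, hk, rfl⟩, had⟩ := ha
    refine ⟨⟨x * k * x⁻¹, (inferInstance : K.Normal).conj_mem k hk x, ?_⟩, ?_⟩
    · rw [map_mul, map_mul, map_inv, mul_inv_eq_iff_eq_mul]
      refine Units.ext ?_
      simp only [Units.val_mul]
      rw [hl, Matrix.smul_mul, Matrix.mul_smul, mul_assoc, mul_assoc, Units.inv_mul, mul_one]
    · show Matrix.GeneralLinearGroup.det (s * pr1 ω M k * s⁻¹) = 1
      have h1 : Matrix.GeneralLinearGroup.det (pr1 ω M k) = 1 := had
      simp [map_mul, map_inv, h1]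
  have hfull := full_of_normalised h.qcase hNG hnorm hn hns
  -- a group of transvections
  obtain ⟨a, ha⟩ := C.exists_norm (c := (-1 : F)) (by simp)
  obtain ⟨u, hu⟩ : ∃ u : Fin 5 → F, u = ![0, 1, 0, 0, a] := ⟨_, rfl⟩
  have hform : ∀ w, Cfsg.hermForm 5 F q w u = w 1 + w 4 * C.bar a := fun w => by
    simp [hu, Cfsg.hermForm, Fin.sum_univ_five, ← C.bar_eq]
  have huu : Cfsg.hermForm 5 F q u u = 0 := by
    rw [hform, hu]
    simp
    linear_combination ha
  have hcen : u ∈ Unit.centres hU M := by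
    refine ⟨huu, fun c hc => ⟨CfsgLib.Perm.Trans.utv_orth hU huu c, ?_⟩⟩
    obtain ⟨X, hX⟩ : ∃ X : M2, X = !![1 + c, c * C.bar a; c * a, 1 - c] := ⟨_, rfl⟩
    have hXd : X.det = 1 := by
      rw [hX, Matrix.det_fin_two_of]; linear_combination -c * c * ha
    obtain ⟨s, hs⟩ : ∃ s : GL (Fin 2) F, (s : M2) = X :=
      ⟨Matrix.GeneralLinearGroup.mkOfDetNeZero X (by rw [hXd]; exact one_ne_zero), rfl⟩
    have hsG : s ∈ Cfsg.GU 2 F q ⊓ specialLinear (Fin 2) F := by
      refine ⟨C.mem_gu_iff_mat.2 ?_, ?_⟩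
      · rw [hs, hX]
        ext i j
        fin_cases i <;> fin_cases j <;> simp [Matrix.mul_apply, Fin.sum_univ_two, C.bar_bar, hc]
        · linear_combination -(c * c) * ha
        · ring
        · ring
        · linear_combination -(c * c) * ha
      · show Matrix.GeneralLinearGroup.det s = 1
        rw [Units.ext_iff, Matrix.GeneralLinearGroup.val_det_apply, hs, hXd, Units.val_one]
    have hsN := hfull hsG
    rw [hN] at hsN
    obtain ⟨⟨k, hk, hks⟩, -⟩ := hsN
    rw [hK] at hk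
    have hk1 : p1 ((k : G5) : M5) = X := by rw [← val_pr1, hks, hs]
    have hk2 : p2 ((k : G5) : M5) = 1 := by rw [← val_pr2, show pr2 ω M k = 1 from hk.2, Units.val_one]
    have hk0 : ((k : G5) : M5) 0 0 = 1 := by rw [← val_pr0, show pr0 ω M k = 1 from hk.1, Units.val_one]
    obtain ⟨b1, b2, b3, b4, b5, b6, b7, b8, b9, c1, c2, c3, c4, c5, c6, c7⟩ := blocked_Cq k
    have q11 := congrFun (congrFun hk1 0) 0
    have q14 := congrFun (congrFun hk1 0) 1
    have q41 := congrFun (congrFun hk1 1) 0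
    have q44 := congrFun (congrFun hk1 1) 1
    have q22 := congrFun (congrFun hk2 0) 0
    have q23 := congrFun (congrFun hk2 0) 1
    have q32 := congrFun (congrFun hk2 1) 0
    have q33 := congrFun (congrFun hk2 1) 1
    simp [p1, hX] at q11 q14 q41 q44
    simp [p2] at q22 q23 q32 q33
    have hkt : (tv u (c • CfsgLib.Perm.Trans.hv hU u) (CfsgLib.Perm.Trans.utv_orth hU huu c) : M5) = ((k : G5) : M5) := by
      refine Matrix.ext_of_mulVec_single fun j => ?_
      rw [tv_mulVec, smul_dotProduct, CfsgLib.Perm.Trans.hv_dot, hform, smul_eq_mul]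
      ext i
      fin_cases i <;> fin_cases j <;> simp [hu, *] <;> linear_combination c * ha
    exact (Units.ext hkt : _ = (k : G5)) ▸ (mem_Cq.1 k.2).1
  -- the group is everything
  have h4 : 4 < Fintype.card F := by
    rw [h.qcase.1]
    calc 4 < 4 ^ 2 := by norm_num
      _ ≤ q ^ 2 := Nat.pow_le_pow_left h.qcase.four_le 2
  have hu0 : u ≠ 0 := fun e => by simpa [hu] using congrFun e 1
  have hirr : ∀ W : Submodule F (Fin 5 → F),
      (∀ x ∈ M, ∀ w ∈ W, (x : M5) *ᵥ w ∈ W) → W = ⊥ ∨ W = ⊤ := fun W hW =>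
    irreducible_of_frame ω W (fun w hw => hW _ h.memD w hw) fun w hw => hW _ h.memS w hw
  refine h.ne (le_antisymm h.le ?_)
  have hle : M ≤ CfsgLib.Perm.Trans.Unit.isoU (Cfsg.hermForm 5 F q) := fun g hg => (h.le hg).1
  have htop := Unit.centres_top_of_irreducible_group hU hle (Fintype.card_fin 5) h4 hirr hu0 hcen
  exact Unit.isoU_inf_SL_le hU (fun v _ hv => (htop v hv).2) (Or.inr h4)

/-- the first pair does not contain the special unitary group -/
theorem not_big_pr1 (h : UCtx5 ω q M) : ¬ Big F q (pr1 ω M).range := by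
  classical
  intro hbig
  obtain ⟨C⟩ := CfsgLib.Perm.Trans.Unit.ctx_of_card h.qcase.1
  obtain ⟨J, hJ⟩ : ∃ J : GL (Fin 2) F, (J : M2) = !![0, 1; -1, 0] :=
    ⟨Matrix.GeneralLinearGroup.mkOfDetNeZero !![0, 1; -1, 0] (by rw [Matrix.det_fin_two_of]; simp), rfl⟩
  obtain ⟨_, ⟨x, rfl⟩, l, hl⟩ := hbig J (C.mem_gu_iff_mat.2 (by
      rw [hJ]
      ext i j
      fin_cases i <;> fin_cases j <;> simp [Matrix.mul_apply, Fin.sum_univ_two]))
    (by rw [hJ, Matrix.det_fin_two_of]; ring)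
  have hl0 : l ≠ 0 := fun e => Matrix.GeneralLinearGroup.det_ne_zero (pr1 ω M x) (by
    rw [hl, e, zero_smul, Matrix.det_zero])
  obtain ⟨g, hg⟩ : ∃ g, g = x * cT h := ⟨_, rfl⟩
  have hg1 : p1 ((g : G5) : M5) = Matrix.diagonal ![l, -l] := by
    rw [← val_pr1, hg, map_mul, Units.val_mul, hl, hJ, pr1_cT]
    ext i j
    fin_cases i <;> fin_cases j <;> simp [Matrix.mul_apply, Fin.sum_univ_two]
  have e11 := congrFun (congrFun hg1 0) 0
  have e14 := congrFun (congrFun hg1 0) 1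
  have e41 := congrFun (congrFun hg1 1) 0
  have e44 := congrFun (congrFun hg1 1) 1
  simp [p1] at e11 e14 e41 e44
  have h2 := ω.two
  have hll : l ≠ -l := fun e => mul_ne_zero h2 hl0 (by linear_combination e)
  -- swapping the pairs
  have swap : ∀ z : Cq ω M, (∃ c : F, p1 ((z : G5) : M5) = c • (1 : M2)) →
      (∀ c : F, p2 ((z : G5) : M5) ≠ c • (1 : M2)) → False := fun z hz1 hz2 => by
    obtain ⟨k, hk2, hk1⟩ := exists_swap h z
    refine false_of_split h hbig (z := k) (hk2.symm ▸ hz1) fun c hc => hz2 c ?_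
    rw [hk1] at hc
    have a00 := congrFun (congrFun hc 0) 0
    have a01 := congrFun (congrFun hc 0) 1
    have a10 := congrFun (congrFun hc 1) 0
    have a11 := congrFun (congrFun hc 1) 1
    simp at a00 a01 a10 a11
    ext i j
    fin_cases i <;> fin_cases j <;> simp [p2, a00, a01, a10, a11]
  by_cases hd : ((g : G5) : M5) 2 3 = 0 ∧ ((g : G5) : M5) 3 2 = 0
  swap
  · refine swap (g * cD h * g⁻¹ * (cD h)⁻¹) ⟨1, ?_⟩ fun c hc => hd ?_
    · have hcm : pr1 ω M g * pr1 ω M (cD h) = pr1 ω M (cD h) * pr1 ω M g := Units.ext (by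
        rw [Units.val_mul, Units.val_mul, pr1_cD, val_pr1, hg1, Matrix.diagonal_mul_diagonal,
          Matrix.diagonal_mul_diagonal]
        simp [mul_comm])
      rw [← val_pr1, map_mul, map_mul, map_mul, map_inv, map_inv, hcm, mul_inv_cancel_right, mul_inv_cancel,
        Units.val_one, one_smul]
    · have e : (pr2 ω M g : M2) * (pr2 ω M (cD h) : M2) = c • ((pr2 ω M (cD h) : M2) * (pr2 ω M g : M2)) := by
        rw [← Units.val_mul, ← Units.val_mul, ← map_mul, ← map_mul,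
          show g * cD h = g * cD h * g⁻¹ * (cD h)⁻¹ * (cD h * g) by group, map_mul, Units.val_mul,
          val_pr2 (g * cD h * g⁻¹ * (cD h)⁻¹), hc, Matrix.smul_mul, one_mul]
      rw [pr2_cD, show ω.μ ^ 3 = (ω.μ ^ 2) ^ 4 by linear_combination -(ω.μ ^ 3) * ω.pow5] at e
      obtain ⟨d1, d2⟩ := diag_of_comm_smul (z := pr2 ω M g) (by rw [← pow_mul, mul_comm, pow_mul, ω.pow5, one_pow])
        (ω.pow_ne_one (by norm_num)) e
      simpa [val_pr2, p2] using And.intro d1 d2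
  obtain ⟨e23, e32⟩ := hd
  obtain ⟨b1, b2, b3, b4, b5, b6, b7, b8, b9, c1, c2, c3, c4, c5, c6, c7⟩ := blocked_Cq g
  obtain ⟨a, hA⟩ : ∃ a : Fin 5 → F, ((g : G5) : M5) = Matrix.diagonal a :=
    ⟨fun i => ((g : G5) : M5) i i, by
      ext i j
      fin_cases i <;> fin_cases j <;> simp [b1, b2, b3, b4, b5, b6, b7, b8, b9, c1, c2, c3, c4, c5, c6, c7, e14, e41, e23, e32]⟩
  have a1 : a 1 = l := by rw [← e11, hA]; simp
  have a4 : a 4 = -l := by rw [← e44, hA]; simp
  have hp : ∀ b : Fin 5 → F, p1 (Matrix.diagonal b) = Matrix.diagonal ![b 1, b 4] ∧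
      p2 (Matrix.diagonal b) = Matrix.diagonal ![b 2, b 3] := fun b => by
    constructor <;> ext i j <;> fin_cases i <;> fin_cases j <;> simp [p1, p2]
  have hsc : ∀ {x y : F}, x = y → Matrix.diagonal ![x, y] = x • (1 : M2) := fun e => by
    subst e; ext i j; fin_cases i <;> fin_cases j <;> simp
  have hnsc : ∀ {x y : F}, x ≠ y → ∀ c : F, Matrix.diagonal ![x, y] ≠ c • (1 : M2) := fun hne c e => hne (by
    have u0 := congrFun (congrFun e 0) 0
    have u1 := congrFun (congrFun e 1) 1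
    simp at u0 u1
    rw [u0, u1])
  by_cases h23 : a 2 = a 3
  · refine false_of_split h hbig (z := g) ⟨a 2, ?_⟩ ?_
    · rw [hA, (hp a).2]; exact hsc h23
    · rw [hA, (hp a).1, a1, a4]; exact hnsc hll
  by_cases h23' : a 2 = -a 3
  swap
  · have hgg : ((g * g : Cq ω M) : G5) = (g : G5) * g := rfl
    refine swap (g * g) ⟨l * l, ?_⟩ ?_
    · rw [hgg, Units.val_mul, hA, Matrix.diagonal_mul_diagonal, (hp _).1, a1, a4, neg_mul_neg]; exact hsc rfl
    · rw [hgg, Units.val_mul, hA, Matrix.diagonal_mul_diagonal, (hp _).2]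
      refine hnsc fun e => ?_
      rcases mul_self_eq_mul_self_iff.1 e with e | e
      exacts [h23 e, h23' e]
  -- two shifts
  obtain ⟨x, hx⟩ : ∃ x, x = gS ω * (g : G5) * (gS ω)⁻¹ * ((gS ω)⁻¹ * (g : G5) * gS ω) := ⟨_, rfl⟩
  have hgM := (mem_Cq.1 g.2).1
  have hxM : x ∈ M := hx ▸ mul_mem (mul_mem (mul_mem h.memS hgM) (inv_mem h.memS))
    (mul_mem (mul_mem (inv_mem h.memS) hgM) h.memS)
  obtain ⟨b, hb⟩ : ∃ b : Fin 5 → F, b = fun i => a (i - 1) * a (i + 1) := ⟨_, rfl⟩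
  have hxv : (x : M5) = Matrix.diagonal b := by
    have hsd : ∀ c : Fin 5 → F, (sm : M5) * Matrix.diagonal c = Matrix.diagonal (fun i => c (i - 1)) * sm := fun c => by
      ext i j
      fin_cases i <;> fin_cases j <;> simp [sm, Matrix.mul_diagonal, Matrix.diagonal_mul] <;> rfl
    have e1 : ((gS ω * (g : G5) * (gS ω)⁻¹ : G5) : M5) = Matrix.diagonal (fun i => a (i - 1)) := by
      rw [Units.val_mul, Units.val_mul, hA, val_gS, hsd, mul_assoc, ← val_gS ω, Units.mul_inv, mul_one]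
    have e2 : (((gS ω)⁻¹ * (g : G5) * gS ω : G5) : M5) = Matrix.diagonal (fun i => a (i + 1)) := by
      rw [Units.val_mul, Units.val_mul, hA, mul_assoc]
      have : Matrix.diagonal a * (sm : M5) = sm * Matrix.diagonal (fun i => a (i + 1)) := by
        rw [hsd]
        congr 1
        congr 1
        funext i
        rw [sub_add_cancel]
      rw [val_gS, this, ← val_gS ω, Units.inv_mul_cancel_left]
    rw [hx, Units.val_mul, e1, e2, Matrix.diagonal_mul_diagonal, hb]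
  have hxq : x * gQ ω = gQ ω * x := Units.ext (by
    rw [Units.val_mul, Units.val_mul, hxv, val_gQ, qd, Matrix.diagonal_mul_diagonal, Matrix.diagonal_mul_diagonal]
    simp only [mul_comm])
  have ha0 : a 0 ≠ 0 ∧ a 3 ≠ 0 := by
    have hd0 := Matrix.GeneralLinearGroup.det_ne_zero (g : G5)
    rw [hA, Matrix.det_diagonal, Finset.prod_ne_zero_iff] at hd0
    exact ⟨hd0 0 (Finset.mem_univ _), hd0 3 (Finset.mem_univ _)⟩
  refine false_of_split h hbig (z := ⟨x, mem_Cq.2 ⟨hxM, hxq⟩⟩) ⟨b 2, ?_⟩ ?_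
  · rw [show ((⟨x, _⟩ : Cq ω M) : G5) = x from rfl, hxv, (hp b).2]
    refine hsc ?_
    simp [hb]
    linear_combination a 3 * a1 - a 2 * a4 + l * h23'
  · rw [show ((⟨x, _⟩ : Cq ω M) : G5) = x from rfl, hxv, (hp b).1]
    refine hnsc fun e => ?_
    simp [hb, h23'] at e
    exact mul_ne_zero h2 (mul_ne_zero ha0.1 ha0.2) (by linear_combination -e)

end CfsgLib.Perm.Trans.UnitFive.Pauli
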